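import Mathlib
import Cfsg.Agent.Lib.Helper2.DSubG5
import Cfsg.Agent.Lib.Helper2.DSub9

set_option autoImplicit false
set_option linter.unusedSectionVars false
set_option linter.style.haveILetI false

/-!
# p'-subgroups of `GL₂(𝔽_p)` seen in `PGL₂` of the algebraic closure
-/

namespace Cfsg.Agent.Lib.Helper5.Xsp

open Matrix OnePoint MulAction
open scoped MatrixGroups
open Cfsg.Agent.Lib.Helper2.DSub

attribute [local instance] pglAct

variable (p : ℕ) [hp : Fact p.Prime]

/-- the algebraic closure of the prime field -/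
abbrev Lp : Type := AlgebraicClosure (ZMod p)

noncomputable instance : DecidableEq (Lp p) := Classical.decEq _

/-- the map `GL₂(𝔽_p) → PGL₂(L)` -/
noncomputable def toP : GL (Fin 2) (ZMod p) →* PGL(Fin 2, Lp p) :=
  ProjGenLinGroup.mk.comp (Matrix.GeneralLinearGroup.map (algebraMap (ZMod p) (Lp p)))

/-- the point of the projective line attached to a vector -/
noncomputable def pt (v : Fin 2 → ZMod p) : OnePoint (Lp p) :=
  if v 1 = 0 then ∞ else ((algebraMap (ZMod p) (Lp p) (v 0 / v 1) : Lp p) : OnePoint (Lp p))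

theorem toP_smul (m : GL (Fin 2) (ZMod p)) (x : OnePoint (Lp p)) :
    toP p m • x = (Matrix.GeneralLinearGroup.map (algebraMap (ZMod p) (Lp p)) m) • x := rfl

theorem map_apply' (m : GL (Fin 2) (ZMod p)) (i j : Fin 2) :
    (Matrix.GeneralLinearGroup.map (algebraMap (ZMod p) (Lp p)) m) i j =
      algebraMap (ZMod p) (Lp p) (m i j) := rfl

theorem algMap_inj : Function.Injective (algebraMap (ZMod p) (Lp p)) :=
  (algebraMap (ZMod p) (Lp p)).injective

/-- eigenvectors give fixed points -/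
theorem toP_fix (m : GL (Fin 2) (ZMod p)) (v : Fin 2 → ZMod p) (hv : v ≠ 0) (μ : ZMod p)
    (hμ : μ ≠ 0) (h : (m : Matrix (Fin 2) (Fin 2) (ZMod p)) *ᵥ v = μ • v) :
    toP p m • pt p v = pt p v := by
  have h0 : m 0 0 * v 0 + m 0 1 * v 1 = μ * v 0 := by
    have := congrFun h 0
    simpa [Matrix.mulVec, dotProduct, Fin.sum_univ_two] using this
  have h1 : m 1 0 * v 0 + m 1 1 * v 1 = μ * v 1 := by
    have := congrFun h 1
    simpa [Matrix.mulVec, dotProduct, Fin.sum_univ_two] using this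
  rw [toP_smul]
  unfold pt
  by_cases hv1 : v 1 = 0
  · rw [if_pos hv1, smul_infty_eq_self_iff, map_apply']
    have hv0 : v 0 ≠ 0 := by
      intro h00
      apply hv
      funext i
      fin_cases i
      · exact h00
      · exact hv1
    rw [hv1, mul_zero, add_zero, mul_zero] at h1
    have : m 1 0 = 0 := by
      rcases mul_eq_zero.mp h1 with h | h
      · exact h
      · exact absurd h hv0
    rw [this, map_zero]
  · rw [if_neg hv1, smul_some_eq_ite]
    have e1 : (Matrix.GeneralLinearGroup.map (algebraMap (ZMod p) (Lp p)) m) 1 0 *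
        algebraMap (ZMod p) (Lp p) (v 0 / v 1) +
        (Matrix.GeneralLinearGroup.map (algebraMap (ZMod p) (Lp p)) m) 1 1 =
        algebraMap (ZMod p) (Lp p) μ := by
      rw [map_apply', map_apply', ← map_mul, ← map_add]
      congr 1
      field_simp
      linear_combination h1
    have e0 : (Matrix.GeneralLinearGroup.map (algebraMap (ZMod p) (Lp p)) m) 0 0 *
        algebraMap (ZMod p) (Lp p) (v 0 / v 1) +
        (Matrix.GeneralLinearGroup.map (algebraMap (ZMod p) (Lp p)) m) 0 1 =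
        algebraMap (ZMod p) (Lp p) μ * algebraMap (ZMod p) (Lp p) (v 0 / v 1) := by
      rw [map_apply', map_apply', ← map_mul, ← map_add, ← map_mul]
      congr 1
      field_simp
      linear_combination h0
    have hμ' : algebraMap (ZMod p) (Lp p) μ ≠ 0 := by
      rw [Ne, map_eq_zero_iff _ (algMap_inj p)]
      exact hμ
    split_ifs with hif
    · exfalso
      rw [e1] at hif
      exact hμ' hif
    · rw [e1, e0]
      congr 1
      field_simp

/-- independent vectors give distinct points -/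
theorem pt_ne (v w : Fin 2 → ZMod p) (h : v 0 * w 1 - v 1 * w 0 ≠ 0) : pt p v ≠ pt p w := by
  unfold pt
  by_cases hv1 : v 1 = 0
  · by_cases hw1 : w 1 = 0
    · exfalso
      apply h
      rw [hv1, hw1]
      ring
    · rw [if_pos hv1, if_neg hw1]
      exact OnePoint.infty_ne_coe _
  · by_cases hw1 : w 1 = 0
    · rw [if_neg hv1, if_pos hw1]
      exact OnePoint.coe_ne_infty _
    · rw [if_neg hv1, if_neg hw1]
      intro e
      have e' := OnePoint.coe_injective e
      have e'' := algMap_inj p e'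
      apply h
      field_simp at e''
      linear_combination e''

theorem mulVec_pow_eigen (A : Matrix (Fin 2) (Fin 2) (ZMod p)) (v : Fin 2 → ZMod p) (μ : ZMod p)
    (h : A *ᵥ v = μ • v) (k : ℕ) : (A ^ k) *ᵥ v = (μ ^ k) • v := by
  induction k with
  | zero => simp
  | succ n ih =>
    rw [pow_succ, ← Matrix.mulVec_mulVec, h, Matrix.mulVec_smul, ih, smul_smul, pow_succ, mul_comm]

/-- if the image in `PGL₂` is trivial, the matrix is scalar -/
theorem scalar_of_toP_eq_one (g : GL (Fin 2) (ZMod p)) (h : toP p g = 1) :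
    g 0 1 = 0 ∧ g 1 0 = 0 ∧ g 0 0 = g 1 1 := by
  unfold toP at h
  rw [MonoidHom.comp_apply, ProjGenLinGroup.mk_eq_one,
    Matrix.GeneralLinearGroup.center_eq_range_scalar] at h
  obtain ⟨u, hu⟩ := h
  have e : ∀ i j, (Matrix.GeneralLinearGroup.scalar (Fin 2) u) i j =
      algebraMap (ZMod p) (Lp p) (g i j) := by
    intro i j
    rw [hu]
    rfl
  have e01 := e 0 1
  have e10 := e 1 0
  have e00 := e 0 0
  have e11 := e 1 1
  simp [Matrix.GeneralLinearGroup.scalar] at e01 e10 e00 e11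
  refine ⟨?_, ?_, ?_⟩
  · exact algMap_inj p (by rw [← e01, map_zero])
  · exact algMap_inj p (by rw [← e10, map_zero])
  · exact algMap_inj p (by rw [← e00, ← e11])

theorem pow_three (m : GL (Fin 2) (ZMod p)) (v : Fin 2 → ZMod p) (hv : v ≠ 0) (l : (ZMod p)ˣ)
    (h : (m : Matrix (Fin 2) (Fin 2) (ZMod p)) *ᵥ v = ((l⁻¹ : (ZMod p)ˣ) : ZMod p) • v)
    (hd : (m : Matrix (Fin 2) (Fin 2) (ZMod p)).det = (l : ZMod p)) (k : ℕ)
    (hk : toP p m ^ k = 1) : l ^ (3 * k) = 1 := by
  rw [← map_pow] at hk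
  obtain ⟨h01, h10, h00⟩ := scalar_of_toP_eq_one p (m ^ k) hk
  have hpow := mulVec_pow_eigen p (m : Matrix (Fin 2) (Fin 2) (ZMod p)) v _ h k
  have hcoe : ((m ^ k : GL (Fin 2) (ZMod p)) : Matrix (Fin 2) (Fin 2) (ZMod p)) =
      (m : Matrix (Fin 2) (Fin 2) (ZMod p)) ^ k := by
    simp
  set g := (m ^ k : GL (Fin 2) (ZMod p)) with hg
  have hgv : (g : Matrix (Fin 2) (Fin 2) (ZMod p)) *ᵥ v = (g 0 0) • v := by
    funext i
    fin_cases i
    · simp [Matrix.mulVec, dotProduct, Fin.sum_univ_two, h01]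
    · simp [Matrix.mulVec, dotProduct, Fin.sum_univ_two, h10, h00]
  rw [← hcoe, hgv] at hpow
  -- g00 = (l⁻¹)^k
  have hg00 : g 0 0 = ((l⁻¹ : (ZMod p)ˣ) : ZMod p) ^ k := by
    obtain ⟨i, hi⟩ : ∃ i, v i ≠ 0 := by
      by_contra hcon
      push Not at hcon
      exact hv (funext hcon)
    have := congrFun hpow i
    simp only [Pi.smul_apply, smul_eq_mul] at this
    exact mul_right_cancel₀ hi this
  have hdet : (g : Matrix (Fin 2) (Fin 2) (ZMod p)).det = (l : ZMod p) ^ k := by
    rw [hcoe, Matrix.det_pow, hd]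
  rw [Matrix.det_fin_two] at hdet
  have h1 : (g : Matrix (Fin 2) (Fin 2) (ZMod p)) 0 1 = 0 := h01
  have h2 : (g : Matrix (Fin 2) (Fin 2) (ZMod p)) 1 0 = 0 := h10
  have h3 : (g : Matrix (Fin 2) (Fin 2) (ZMod p)) 1 1 = g 0 0 := h00.symm
  rw [h1, h2, h3] at hdet
  have h4 : (g : Matrix (Fin 2) (Fin 2) (ZMod p)) 0 0 = g 0 0 := rfl
  rw [h4, hg00] at hdet
  -- (l⁻¹)^k * (l⁻¹)^k = l^k
  apply Units.ext
  have hl : ((l⁻¹ : (ZMod p)ˣ) : ZMod p) * (l : ZMod p) = 1 := by
    rw [← Units.val_mul, inv_mul_cancel, Units.val_one]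
  have : ((l : ZMod p)) ^ (3 * k) = 1 := by
    have e2 : ((l⁻¹ : (ZMod p)ˣ) : ZMod p) ^ k * (l : ZMod p) ^ k = 1 := by
      rw [← mul_pow, hl, one_pow]
    generalize ((l⁻¹ : (ZMod p)ˣ) : ZMod p) ^ k = a at hdet e2
    have hb : (l : ZMod p) ^ (3 * k) = (l : ZMod p) ^ k * (l : ZMod p) ^ k * (l : ZMod p) ^ k := by
      ring
    rw [hb]
    generalize (l : ZMod p) ^ k = b at hdet e2
    have hab : b = a * a := by rw [← hdet]; ring
    calc b * b * b = (a * a) * b * b := by rw [← hab]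
      _ = (a * b) * (a * b) := by ring
      _ = 1 := by rw [e2, one_mul]
  simpa using this

end Cfsg.Agent.Lib.Helper5.Xsp
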