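import Mathlib
import Cfsg.Agent.Lib.Helper5.Xsp.B1

set_option autoImplicit false
set_option linter.unusedSectionVars false
set_option linter.style.haveILetI false

/-!
# finite p'-subgroups of `PGL₂(L)`: coarse classification
-/

namespace Cfsg.Agent.Lib.Helper5.Xsp

open Matrix OnePoint MulAction
open scoped MatrixGroups
open Cfsg.Agent.Lib.Helper2.DSub

attribute [local instance] pglAct

variable (p : ℕ) [hp : Fact p.Prime]

theorem alt4_orders : ∀ σ : Equiv.Perm (Fin 4), Equiv.Perm.sign σ = 1 →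
    σ ^ 2 = 1 ∨ σ ^ 3 = 1 := by decide

set_option maxRecDepth 100000 in
theorem alt5_orders : ∀ σ : Equiv.Perm (Fin 5), Equiv.Perm.sign σ = 1 →
    σ ^ 2 = 1 ∨ σ ^ 3 = 1 ∨ σ ^ 5 = 1 := by decide

theorem no_par (K : Subgroup (PGL(Fin 2, Lp p))) [Finite K] (hK : ¬ p ∣ Nat.card K) (g : K)
    (x : OnePoint (Lp p)) : ¬ IsPar g x := by
  intro hg
  rw [isPar_coe_iff] at hg
  have h1 := pow_char_of_isPar p x (g : PGL(Fin 2, Lp p)) hg
  have h2 : g ^ p = 1 := by
    apply Subtype.ext
    rw [Subgroup.coe_pow, h1, Subgroup.coe_one]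
  have h3 : g ≠ 1 := by
    intro h
    apply hg.1
    rw [h, Subgroup.coe_one]
  have h4 : orderOf g = p := orderOf_eq_prime h2 h3
  apply hK
  have := orderOf_dvd_natCard g
  rwa [h4] at this

theorem pprime_classify (K : Subgroup (PGL(Fin 2, Lp p))) [Finite K] (hK : ¬ p ∣ Nat.card K) :
    (∃ r : K, ∀ c : K, c ^ 2 ≠ 1 → c ∈ Subgroup.zpowers r) ∨
    (∀ c : K, c ^ 2 = 1 ∨ c ^ 3 = 1) ∨
    Nonempty (K ≃* Equiv.Perm (Fin 4)) ∨
    (∀ c : K, c ^ 2 = 1 ∨ c ^ 3 = 1 ∨ c ^ 5 = 1) := by
  have M : Mob ↥K (OnePoint (Lp p)) := mob_subgroup K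
  rcases classify M with ⟨x, hx⟩ | ⟨y, hnp, ⟨e⟩⟩ | ⟨⟨e⟩⟩ | h | ⟨⟨e⟩⟩ | ⟨x, hq, -⟩
  · left
    have hcyc := M.cyc x (fun g => no_par p K hK g x)
    obtain ⟨r, hr⟩ := hcyc.exists_generator
    refine ⟨(r : K), fun c _ => ?_⟩
    have hc : c ∈ stabilizer K x := mem_stabilizer_iff.mpr (hx c)
    have := hr ⟨c, hc⟩
    rw [Subgroup.mem_zpowers_iff] at this ⊢
    obtain ⟨k, hk⟩ := this
    refine ⟨k, ?_⟩
    have := congrArg (fun t : stabilizer K x => (t : K)) hk
    simpa using this
  · left
    refine ⟨e.symm (DihedralGroup.r 1), fun c hc => ?_⟩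
    rw [Subgroup.mem_zpowers_iff]
    rcases hec : e c with i | i
    · refine ⟨(ZMod.cast i : ℤ), ?_⟩
      rw [← map_zpow, DihedralGroup.r_one_zpow, ZMod.intCast_zmod_cast, ← hec,
        MulEquiv.symm_apply_apply]
    · exfalso
      apply hc
      apply e.injective
      rw [map_pow, hec, pow_two, DihedralGroup.sr_mul_self, map_one]
  · right; left
    intro c
    have := alt4_orders (e c : Equiv.Perm (Fin 4)) (Equiv.Perm.mem_alternatingGroup.mp (e c).2)
    rcases this with h | h
    · left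
      apply e.injective
      apply Subtype.ext
      rw [map_pow, Subgroup.coe_pow, h, map_one, Subgroup.coe_one]
    · right
      apply e.injective
      apply Subtype.ext
      rw [map_pow, Subgroup.coe_pow, h, map_one, Subgroup.coe_one]
  · right; right; left
    exact h
  · right; right; right
    intro c
    have := alt5_orders (e c : Equiv.Perm (Fin 5)) (Equiv.Perm.mem_alternatingGroup.mp (e c).2)
    rcases this with h | h | h
    · left
      apply e.injective
      apply Subtype.ext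
      rw [map_pow, Subgroup.coe_pow, h, map_one, Subgroup.coe_one]
    · right; left
      apply e.injective
      apply Subtype.ext
      rw [map_pow, Subgroup.coe_pow, h, map_one, Subgroup.coe_one]
    · right; right
      apply e.injective
      apply Subtype.ext
      rw [map_pow, Subgroup.coe_pow, h, map_one, Subgroup.coe_one]
  · exfalso
    have h1 : 1 < Nat.card (Q M x) := by omega
    obtain ⟨g, hg⟩ := (Subgroup.one_lt_card_iff_ne_bot (Q M x)).mp h1 |>
      (Subgroup.ne_bot_iff_exists_ne_one).mp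
    have hg' : (g : K) ∈ Q M x := g.2
    rcases hg' with h | h
    · apply hg
      exact Subtype.ext h
    · exact no_par p K hK (g : K) x h

end Cfsg.Agent.Lib.Helper5.Xsp
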