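import Mathlib
import Cfsg.Agent.Lib.Helper5.Xsp.B2

set_option autoImplicit false
set_option linter.unusedSectionVars false
set_option linter.style.haveILetI false

/-!
# p'-subgroups of `GL₂(𝔽_p)` with prescribed torus elements on three lines
-/

namespace Cfsg.Agent.Lib.Helper5.Xsp

open Matrix OnePoint MulAction
open scoped MatrixGroups
open Cfsg.Agent.Lib.Helper2.DSub

attribute [local instance] pglAct

set_option maxRecDepth 100000 in
theorem perm4_orders : ∀ σ : Equiv.Perm (Fin 4), σ ^ 2 = 1 ∨ σ ^ 3 = 1 ∨ σ ^ 4 = 1 := by decide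

set_option maxRecDepth 100000 in
theorem perm4_card_four :
    (Finset.univ.filter (fun σ : Equiv.Perm (Fin 4) => σ ^ 2 ≠ 1 ∧ σ ^ 3 ≠ 1)).card = 6 := by
  decide

section cyc

variable {H X : Type*} [Group H] [MulAction H X]

/-- three nonidentity elements of a cyclic subgroup cannot fix three different points -/
theorem cyclic_three (M : Mob H X) (hnp : ∀ (g : H) (x : X), ¬ IsPar g x) (r : H)
    (c : Fin 3 → H) (hc : ∀ i, c i ∈ Subgroup.zpowers r) (hc1 : ∀ i, c i ≠ 1)
    (x : Fin 3 → X) (hx : ∀ i, c i • x i = x i) (hinj : Function.Injective x) : False := by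
  have hr : r ≠ 1 := by
    intro h
    apply hc1 0
    have := hc 0
    rw [h, Subgroup.zpowers_one_eq_bot, Subgroup.mem_bot] at this
    exact this
  obtain ⟨a, b, hab, ha, hb, hall⟩ := exists_two_fixed M r hr (fun y => hnp r y)
  have hfix : ∀ i, c i • a = a ∧ c i • b = b := by
    intro i
    obtain ⟨k, hk⟩ := Subgroup.mem_zpowers_iff.mp (hc i)
    have h1 : r ∈ stabilizer H a := mem_stabilizer_iff.mpr ha
    have h2 : r ∈ stabilizer H b := mem_stabilizer_iff.mpr hb
    rw [← hk]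
    exact ⟨mem_stabilizer_iff.mp (Subgroup.zpow_mem _ h1 k),
      mem_stabilizer_iff.mp (Subgroup.zpow_mem _ h2 k)⟩
  have hmem : ∀ i, x i = a ∨ x i = b := by
    intro i
    by_contra hcon
    push Not at hcon
    apply hc1 i
    exact M.sharp (c i) a b (x i) hab (Ne.symm hcon.1) (Ne.symm hcon.2) (hfix i).1 (hfix i).2 (hx i)
  have h01 : x 0 ≠ x 1 := fun h => by have := hinj h; exact absurd this (by decide)
  have h02 : x 0 ≠ x 2 := fun h => by have := hinj h; exact absurd this (by decide)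
  have h12 : x 1 ≠ x 2 := fun h => by have := hinj h; exact absurd this (by decide)
  rcases hmem 0 with h0 | h0 <;> rcases hmem 1 with h1 | h1 <;> rcases hmem 2 with h2 | h2 <;>
    simp_all

end cyc

variable (p : ℕ) [hp : Fact p.Prime]

theorem exists_unit_generator : ∃ l : (ZMod p)ˣ, orderOf l = p - 1 := by
  obtain ⟨l, hl⟩ := IsCyclic.exists_generator (α := (ZMod p)ˣ)
  refine ⟨l, ?_⟩
  rw [orderOf_eq_card_of_forall_mem_zpowers hl, Nat.card_eq_fintype_card, ZMod.card_units]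

variable (H : Subgroup (GL (Fin 2) (ZMod p)))

instance finite_map_toP : Finite ↥(H.map (toP p)) :=
  Finite.of_surjective ((toP p).subgroupMap H) ((toP p).subgroupMap_surjective H)

/-- the eigen-data on the line of `v` -/
def HasTorus (v : Fin 2 → ZMod p) : Prop :=
  ∀ l : (ZMod p)ˣ, ∃ m ∈ H, (m : Matrix (Fin 2) (Fin 2) (ZMod p)) *ᵥ v =
    ((l⁻¹ : (ZMod p)ˣ) : ZMod p) • v ∧ (m : Matrix (Fin 2) (Fin 2) (ZMod p)).det = (l : ZMod p)

theorem card_map_not_dvd (hH : ¬ p ∣ Nat.card H) : ¬ p ∣ Nat.card ↥(H.map (toP p)) := by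
  intro h
  exact hH (h.trans (Subgroup.card_map_dvd H (toP p)))

theorem dvd_of_pow_eq_one (l : (ZMod p)ˣ) (hl : orderOf l = p - 1) (m : GL (Fin 2) (ZMod p))
    (hm : m ∈ H) (v : Fin 2 → ZMod p) (hv : v ≠ 0)
    (h : (m : Matrix (Fin 2) (Fin 2) (ZMod p)) *ᵥ v = ((l⁻¹ : (ZMod p)ˣ) : ZMod p) • v)
    (hd : (m : Matrix (Fin 2) (Fin 2) (ZMod p)).det = (l : ZMod p)) (k : ℕ)
    (hk : (⟨toP p m, Subgroup.mem_map_of_mem _ hm⟩ : ↥(H.map (toP p))) ^ k = 1) :
    p - 1 ∣ 3 * k := by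
  have h1 : toP p m ^ k = 1 := by
    have := congrArg (fun t : ↥(H.map (toP p)) => (t : PGL(Fin 2, Lp p))) hk
    simpa using this
  have h2 := pow_three p m v hv l h hd k h1
  rw [← hl]
  exact orderOf_dvd_of_pow_eq_one h2

theorem core_three (hH : ¬ p ∣ Nat.card H) (v : Fin 3 → Fin 2 → ZMod p)
    (hv : ∀ i j, i ≠ j → v i 0 * v j 1 - v i 1 * v j 0 ≠ 0)
    (hel : ∀ i, HasTorus p H (v i)) :
    p - 1 ∣ 6 ∨ p - 1 ∣ 9 ∨ p - 1 ∣ 15 ∨
      (p - 1 ∣ 12 ∧ Nonempty (↥(H.map (toP p)) ≃* Equiv.Perm (Fin 4))) := by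
  obtain ⟨l, hl⟩ := exists_unit_generator p
  have hK := card_map_not_dvd p H hH
  have hv0 : ∀ i, v i ≠ 0 := by
    intro i h0
    obtain ⟨j, hj⟩ : ∃ j : Fin 3, i ≠ j := by
      fin_cases i
      · exact ⟨1, by decide⟩
      · exact ⟨0, by decide⟩
      · exact ⟨0, by decide⟩
    apply hv i j hj
    rw [h0]
    simp
  choose m hmH hmv hmd using fun i => hel i l
  let c : Fin 3 → ↥(H.map (toP p)) := fun i => ⟨toP p (m i), Subgroup.mem_map_of_mem _ (hmH i)⟩
  have hdiv : ∀ i k, c i ^ k = 1 → p - 1 ∣ 3 * k := fun i k hk =>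
    dvd_of_pow_eq_one p H l hl (m i) (hmH i) (v i) (hv0 i) (hmv i) (hmd i) k hk
  rcases pprime_classify p (H.map (toP p)) hK with ⟨r, hr⟩ | h | ⟨⟨e⟩⟩ | h
  · by_cases h2 : ∃ i, c i ^ 2 = 1
    · obtain ⟨i, hi⟩ := h2
      left
      exact hdiv i 2 hi
    · exfalso
      push Not at h2
      have M : Mob ↥(H.map (toP p)) (OnePoint (Lp p)) := mob_subgroup _
      refine cyclic_three M (fun g x => no_par p _ hK g x) r c (fun i => hr _ (h2 i))
        (fun i h1 => h2 i (by rw [h1, one_pow])) (fun i => pt p (v i)) (fun i => ?_) ?_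
      · show toP p (m i) • pt p (v i) = pt p (v i)
        apply toP_fix p (m i) (v i) (hv0 i) _ _ (hmv i)
        exact Units.ne_zero _
      · intro i j hij
        by_contra hne
        exact pt_ne p (v i) (v j) (hv i j hne) hij
  · rcases h (c 0) with h2 | h3
    · left; exact hdiv 0 2 h2
    · right; left; exact hdiv 0 3 h3
  · have hc : ∀ k, (e (c 0)) ^ k = 1 → c 0 ^ k = 1 := by
      intro k hk
      apply e.injective
      rw [map_pow, hk, map_one]
    rcases perm4_orders (e (c 0)) with h2 | h3 | h4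
    · left; exact hdiv 0 2 (hc 2 h2)
    · right; left; exact hdiv 0 3 (hc 3 h3)
    · right; right; right
      exact ⟨hdiv 0 4 (hc 4 h4), ⟨e⟩⟩
  · rcases h (c 0) with h2 | h3 | h5
    · left; exact hdiv 0 2 h2
    · right; left; exact hdiv 0 3 h3
    · right; right; left; exact hdiv 0 5 h5

end Cfsg.Agent.Lib.Helper5.Xsp
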