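import Mathlib
import Cfsg.Agent.Lib.Helper5.Xsp.B3

set_option autoImplicit false
set_option linter.unusedSectionVars false
set_option linter.style.haveILetI false

/-!
# p'-subgroups of `GL₂(𝔽_p)` with prescribed torus elements on all lines
-/

namespace Cfsg.Agent.Lib.Helper5.Xsp

open Matrix OnePoint MulAction
open scoped MatrixGroups
open Cfsg.Agent.Lib.Helper2.DSub

attribute [local instance] pglAct

variable (p : ℕ) [hp : Fact p.Prime]

/-- a vector on each of the `p+1` lines -/
def lineVec : Option (ZMod p) → Fin 2 → ZMod p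
  | Option.none => ![1, 0]
  | Option.some t => ![t, 1]

theorem lineVec_ne_zero (a : Option (ZMod p)) : lineVec p a ≠ 0 := by
  intro h
  cases a with
  | none =>
    have := congrFun h 0
    simp [lineVec] at this
  | some t =>
    have := congrFun h 1
    simp [lineVec] at this

theorem lineVec_dt (a b : Option (ZMod p)) (hab : a ≠ b) :
    lineVec p a 0 * lineVec p b 1 - lineVec p a 1 * lineVec p b 0 ≠ 0 := by
  cases a with
  | none =>
    cases b with
    | none => exact absurd rfl hab
    | some s => simp [lineVec]
  | some t =>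
    cases b with
    | none => simp [lineVec]
    | some s =>
      simp only [lineVec, Matrix.cons_val_zero, Matrix.cons_val_one, mul_one, one_mul]
      intro h
      apply hab
      rw [sub_eq_zero.mp h]

theorem prime_le_of_pred_dvd {n : ℕ} (hn : 0 < n) (h : p - 1 ∣ n) : p ≤ n + 1 := by
  have := Nat.le_of_dvd hn h
  omega

theorem core_all (H : Subgroup (GL (Fin 2) (ZMod p))) (hH : ¬ p ∣ Nat.card H)
    (hel : ∀ v : Fin 2 → ZMod p, v ≠ 0 → HasTorus p H v) : p ≤ 7 := by
  have hpp := hp.out
  have h3 := core_three p H hH ![lineVec p Option.none, lineVec p (Option.some 0), lineVec p (Option.some 1)] (by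
      have h01 : (Option.none : Option (ZMod p)) ≠ Option.some 0 := by simp
      have h02 : (Option.none : Option (ZMod p)) ≠ Option.some 1 := by simp
      have h12 : (Option.some 0 : Option (ZMod p)) ≠ Option.some 1 := by
        intro h
        have := Option.some.inj h
        exact zero_ne_one this
      intro i j hij
      fin_cases i <;> fin_cases j
      · exact absurd rfl hij
      · exact lineVec_dt p _ _ h01
      · exact lineVec_dt p _ _ h02
      · exact lineVec_dt p _ _ h01.symm
      · exact absurd rfl hij
      · exact lineVec_dt p _ _ h12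
      · exact lineVec_dt p _ _ h02.symm
      · exact lineVec_dt p _ _ h12.symm
      · exact absurd rfl hij) (by
      intro i
      fin_cases i
      · exact hel (lineVec p Option.none) (lineVec_ne_zero p _)
      · exact hel (lineVec p (Option.some 0)) (lineVec_ne_zero p _)
      · exact hel (lineVec p (Option.some 1)) (lineVec_ne_zero p _))
  rcases h3 with h | h | h | ⟨h, ⟨e⟩⟩
  · have := prime_le_of_pred_dvd p (by norm_num) h
    omega
  · have h10 := prime_le_of_pred_dvd p (by norm_num) h
    by_contra hcon
    have : p = 8 ∨ p = 9 ∨ p = 10 := by omega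
    rcases this with rfl | rfl | rfl <;> revert hpp <;> decide
  · have h16 := prime_le_of_pred_dvd p (by norm_num) h
    by_contra hcon
    have : p = 8 ∨ p = 9 ∨ p = 10 ∨ p = 11 ∨ p = 12 ∨ p = 13 ∨ p = 14 ∨ p = 15 ∨ p = 16 := by omega
    rcases this with rfl | rfl | rfl | rfl | rfl | rfl | rfl | rfl | rfl <;>
      first
      | (revert hpp; decide)
      | (revert h; decide)
  · have h13 := prime_le_of_pred_dvd p (by norm_num) h
    by_contra hcon
    have : p = 8 ∨ p = 9 ∨ p = 10 ∨ p = 11 ∨ p = 12 ∨ p = 13 := by omega
    rcases this with rfl | rfl | rfl | rfl | rfl | rfl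
    · revert hpp; decide
    · revert hpp; decide
    · revert hpp; decide
    · revert h; decide
    · revert hpp; decide
    · -- p = 13
      obtain ⟨l, hl⟩ := exists_unit_generator 13
      have hK := card_map_not_dvd 13 H hH
      choose m hmH hmv hmd using fun a : Option (ZMod 13) => hel _ (lineVec_ne_zero 13 a) l
      let c : Option (ZMod 13) → ↥(H.map (toP 13)) :=
        fun a => ⟨toP 13 (m a), Subgroup.mem_map_of_mem _ (hmH a)⟩
      have hdiv : ∀ a k, c a ^ k = 1 → 13 - 1 ∣ 3 * k := fun a k hk =>
        dvd_of_pow_eq_one 13 H l hl (m a) (hmH a) _ (lineVec_ne_zero 13 a) (hmv a) (hmd a) k hk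
      have hc2 : ∀ a, c a ^ 2 ≠ 1 := fun a h2 => by
        have := hdiv a 2 h2
        revert this; decide
      have hc3 : ∀ a, c a ^ 3 ≠ 1 := fun a h3 => by
        have := hdiv a 3 h3
        revert this; decide
      have hfix : ∀ a, c a • pt 13 (lineVec 13 a) = pt 13 (lineVec 13 a) := by
        intro a
        show toP 13 (m a) • pt 13 (lineVec 13 a) = pt 13 (lineVec 13 a)
        apply toP_fix 13 (m a) _ (lineVec_ne_zero 13 a) _ _ (hmv a)
        exact Units.ne_zero _
      set T := Finset.univ.filter (fun σ : Equiv.Perm (Fin 4) => σ ^ 2 ≠ 1 ∧ σ ^ 3 ≠ 1) with hT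
      have hmaps : ∀ a ∈ (Finset.univ : Finset (Option (ZMod 13))), e (c a) ∈ T := by
        intro a _
        rw [hT, Finset.mem_filter]
        refine ⟨Finset.mem_univ _, ?_, ?_⟩
        · intro h2
          apply hc2 a
          apply e.injective
          rw [map_pow, h2, map_one]
        · intro h3
          apply hc3 a
          apply e.injective
          rw [map_pow, h3, map_one]
      have hcard : T.card * 2 < (Finset.univ : Finset (Option (ZMod 13))).card := by
        rw [hT, perm4_card_four]
        simp [ZMod.card]
      obtain ⟨σ, -, hσ⟩ := Finset.exists_lt_card_fiber_of_mul_lt_card_of_maps_to hmaps hcard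
      rw [Finset.two_lt_card_iff] at hσ
      obtain ⟨a, b, d, ha, hb, hd, hab, had, hbd⟩ := hσ
      rw [Finset.mem_filter] at ha hb hd
      have eab : c a = c b := e.injective (ha.2.trans hb.2.symm)
      have ead : c a = c d := e.injective (ha.2.trans hd.2.symm)
      have M : Mob ↥(H.map (toP 13)) (OnePoint (Lp 13)) := mob_subgroup _
      have h1 : c a = 1 := by
        refine M.sharp (c a) (pt 13 (lineVec 13 a)) (pt 13 (lineVec 13 b)) (pt 13 (lineVec 13 d))
          (pt_ne 13 _ _ (lineVec_dt 13 a b hab)) (pt_ne 13 _ _ (lineVec_dt 13 a d had))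
          (pt_ne 13 _ _ (lineVec_dt 13 b d hbd)) (hfix a) ?_ ?_
        · rw [eab]; exact hfix b
        · rw [ead]; exact hfix d
      apply hc2 a
      rw [h1, one_pow]

end Cfsg.Agent.Lib.Helper5.Xsp
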