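import Mathlib

set_option autoImplicit false
set_option linter.unusedSectionVars false
set_option linter.style.haveILetI false

/-!
# Powers with exponents in `ZMod p`, and coordinates on elementary abelian groups of order `p²`
-/

namespace Cfsg.Agent.Lib.Helper5.Xsp

section pw

variable {G : Type*} [Group G] (p : ℕ) [hp : Fact p.Prime]

/-- power with exponent in `ZMod p` -/
def pw (x : G) (k : ZMod p) : G := x ^ k.val

theorem pow_mod_p {x : G} (hx : x ^ p = 1) (n : ℕ) : x ^ (n % p) = x ^ n := by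
  conv_rhs => rw [← Nat.mod_add_div n p]
  rw [pow_add, pow_mul, hx, one_pow, mul_one]

theorem pw_natCast {x : G} (hx : x ^ p = 1) (n : ℕ) : pw p x (n : ZMod p) = x ^ n := by
  unfold pw
  rw [ZMod.val_natCast, pow_mod_p p hx]

theorem pw_zero (x : G) : pw p x 0 = 1 := by
  unfold pw
  rw [ZMod.val_zero, pow_zero]

theorem pw_one (x : G) : pw p x 1 = x := by
  unfold pw
  haveI : Fact (1 < p) := ⟨hp.out.one_lt⟩
  rw [ZMod.val_one, pow_one]

theorem pw_one_left (k : ZMod p) : pw p (1 : G) k = 1 := by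
  unfold pw
  rw [one_pow]

theorem pw_add {x : G} (hx : x ^ p = 1) (i j : ZMod p) :
    pw p x (i + j) = pw p x i * pw p x j := by
  unfold pw
  rw [ZMod.val_add, pow_mod_p p hx, pow_add]

theorem pw_mul {x : G} (hx : x ^ p = 1) (i j : ZMod p) :
    pw p x (i * j) = pw p (pw p x i) j := by
  unfold pw
  rw [ZMod.val_mul, pow_mod_p p hx, pow_mul]

theorem pw_pow_p {x : G} (hx : x ^ p = 1) (i : ZMod p) : (pw p x i) ^ p = 1 := by
  unfold pw
  rw [← pow_mul, mul_comm, pow_mul, hx, one_pow]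

theorem pw_neg {x : G} (hx : x ^ p = 1) (i : ZMod p) : pw p x (-i) = (pw p x i)⁻¹ := by
  rw [eq_inv_iff_mul_eq_one, ← pw_add p hx, neg_add_cancel, pw_zero]

theorem pw_sub {x : G} (hx : x ^ p = 1) (i j : ZMod p) :
    pw p x (i - j) = pw p x i * (pw p x j)⁻¹ := by
  rw [sub_eq_add_neg, pw_add p hx, pw_neg p hx]

theorem conj_pw (g x : G) (k : ZMod p) : g * pw p x k * g⁻¹ = pw p (g * x * g⁻¹) k := by
  unfold pw
  rw [conj_pow]

theorem pw_mul_of_commute {x y : G} (h : Commute x y) (k : ZMod p) :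
    pw p (x * y) k = pw p x k * pw p y k := by
  unfold pw
  rw [h.mul_pow]

theorem map_pw {H : Type*} [Group H] (f : G →* H) (x : G) (k : ZMod p) :
    f (pw p x k) = pw p (f x) k := by
  unfold pw
  rw [map_pow]

theorem pw_mem (S : Subgroup G) {x : G} (hx : x ∈ S) (k : ZMod p) : pw p x k ∈ S :=
  S.pow_mem hx _

theorem pw_comm_of_commute {x y : G} (h : Commute x y) (i j : ZMod p) :
    Commute (pw p x i) (pw p y j) :=
  (h.pow_left _).pow_right _

theorem orderOf_eq_p {x : G} (hx : x ^ p = 1) (hx1 : x ≠ 1) : orderOf x = p :=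
  orderOf_eq_prime hx hx1

theorem pw_inj {x : G} (hx : x ^ p = 1) (hx1 : x ≠ 1) {i j : ZMod p}
    (h : pw p x i = pw p x j) : i = j := by
  unfold pw at h
  rw [pow_eq_pow_iff_modEq, orderOf_eq_p p hx hx1] at h
  have h1 : ((i.val : ℕ) : ZMod p) = ((j.val : ℕ) : ZMod p) :=
    (ZMod.natCast_eq_natCast_iff _ _ _).mpr h
  rwa [ZMod.natCast_zmod_val, ZMod.natCast_zmod_val] at h1

theorem pw_eq_one_iff {x : G} (hx : x ^ p = 1) (hx1 : x ≠ 1) (i : ZMod p) :
    pw p x i = 1 ↔ i = 0 := by
  constructor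
  · intro h
    rw [← pw_zero p x] at h
    exact pw_inj p hx hx1 h
  · rintro rfl
    exact pw_zero p x

theorem exists_pw_of_mem_zpowers {x y : G} (hx : x ^ p = 1) (hy : y ∈ Subgroup.zpowers x) :
    ∃ k : ZMod p, y = pw p x k := by
  obtain ⟨n, rfl⟩ := Subgroup.mem_zpowers_iff.mp hy
  refine ⟨(n : ZMod p), ?_⟩
  unfold pw
  rw [← zpow_natCast, ZMod.val_intCast]
  have h1 : x ^ (n % (p : ℤ)) = x ^ n := by
    conv_rhs => rw [← Int.emod_add_mul_ediv n p]
    rw [zpow_add, zpow_mul, zpow_natCast, hx, one_zpow, mul_one]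
  exact h1.symm

/-- `x` is a power of `pw x k` when `k ≠ 0` -/
theorem pw_pw_inv {x : G} (hx : x ^ p = 1) {k : ZMod p} (hk : k ≠ 0) :
    pw p (pw p x k) k⁻¹ = x := by
  rw [← pw_mul p hx, mul_inv_cancel₀ hk, pw_one]

end pw

section coord

variable (p : ℕ) [hp : Fact p.Prime] {A : Type*} [Group A]

/-- the homomorphism `(i, j) ↦ x^i y^j` -/
def coordHom (hcomm : ∀ a b : A, a * b = b * a) (hexp : ∀ a : A, a ^ p = 1) (x y : A) :
    Multiplicative (Fin 2 → ZMod p) →* A where
  toFun v := pw p x (Multiplicative.toAdd v 0) * pw p y (Multiplicative.toAdd v 1)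
  map_one' := by
    show pw p x 0 * pw p y 0 = 1
    rw [pw_zero, pw_zero, one_mul]
  map_mul' v w := by
    show pw p x (Multiplicative.toAdd v 0 + Multiplicative.toAdd w 0) *
      pw p y (Multiplicative.toAdd v 1 + Multiplicative.toAdd w 1) = _
    rw [pw_add p (hexp x), pw_add p (hexp y)]
    rw [mul_assoc, mul_assoc, ← mul_assoc (pw p x (Multiplicative.toAdd w 0)),
      hcomm (pw p x (Multiplicative.toAdd w 0)) (pw p y (Multiplicative.toAdd v 1))]
    simp only [mul_assoc]

theorem coordHom_injective (hcomm : ∀ a b : A, a * b = b * a) (hexp : ∀ a : A, a ^ p = 1)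
    (x y : A) (hx : x ≠ 1) (hy : y ∉ Subgroup.zpowers x) :
    Function.Injective (coordHom p hcomm hexp x y) := by
  rw [injective_iff_map_eq_one]
  intro v hv
  have hv' : pw p x (Multiplicative.toAdd v 0) * pw p y (Multiplicative.toAdd v 1) = 1 := hv
  have h1 : Multiplicative.toAdd v 1 = 0 := by
    by_contra hne
    apply hy
    have h2 : pw p y (Multiplicative.toAdd v 1) = (pw p x (Multiplicative.toAdd v 0))⁻¹ :=
      eq_inv_of_mul_eq_one_right hv'
    have h3 : pw p y (Multiplicative.toAdd v 1) ∈ Subgroup.zpowers x := by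
      rw [h2]
      exact (Subgroup.zpowers x).inv_mem (pw_mem p _ (Subgroup.mem_zpowers x) _)
    rw [← pw_pw_inv p (hexp y) hne]
    exact pw_mem p _ h3 _
  rw [h1, pw_zero, mul_one, pw_eq_one_iff p (hexp x) hx] at hv'
  have : Multiplicative.toAdd v = 0 := by
    funext i
    fin_cases i
    · exact hv'
    · exact h1
  exact this

theorem card_mult_fin_two : Nat.card (Multiplicative (Fin 2 → ZMod p)) = p ^ 2 := by
  rw [Nat.card_congr Multiplicative.toAdd, Nat.card_eq_fintype_card, Fintype.card_fun, ZMod.card,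
    Fintype.card_fin]

/-- coordinates on an elementary abelian group of order `p²` -/
theorem exists_coord [Finite A] (hcomm : ∀ a b : A, a * b = b * a) (hexp : ∀ a : A, a ^ p = 1)
    (hcard : Nat.card A = p ^ 2) (x y : A) (hx : x ≠ 1) (hy : y ∉ Subgroup.zpowers x) :
    ∃ e : A ≃* Multiplicative (Fin 2 → ZMod p),
      ∀ i j : ZMod p, e (pw p x i * pw p y j) = Multiplicative.ofAdd ![i, j] := by
  have hinj := coordHom_injective p hcomm hexp x y hx hy
  have hbij : Function.Bijective (coordHom p hcomm hexp x y) := by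
    rw [Nat.bijective_iff_injective_and_card]
    exact ⟨hinj, by rw [card_mult_fin_two, hcard]⟩
  refine ⟨(MulEquiv.ofBijective _ hbij).symm, fun i j => ?_⟩
  rw [MulEquiv.symm_apply_eq]
  show _ = coordHom p hcomm hexp x y (Multiplicative.ofAdd ![i, j])
  show _ = pw p x (![i, j] 0) * pw p y (![i, j] 1)
  simp

end coord

end Cfsg.Agent.Lib.Helper5.Xsp
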