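import Mathlib
import Cfsg.Agent.Lib.Helper5.Xsp.T1

set_option autoImplicit false
set_option linter.unusedSectionVars false
set_option linter.style.haveILetI false

/-!
# Matrices acting on a pair of commuting elements of order `p`
-/

namespace Cfsg.Agent.Lib.Helper5.Xsp

open Matrix

variable (p : ℕ) [hp : Fact p.Prime]

/-- upper transvection -/
def xT (t : ZMod p) : GL (Fin 2) (ZMod p) :=
  ⟨!![1, t; 0, 1], !![1, -t; 0, 1], by
    ext i j; fin_cases i <;> fin_cases j <;> simp [Matrix.mul_apply, Fin.sum_univ_two], by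
    ext i j; fin_cases i <;> fin_cases j <;> simp [Matrix.mul_apply, Fin.sum_univ_two]⟩

/-- lower transvection -/
def yT (t : ZMod p) : GL (Fin 2) (ZMod p) :=
  ⟨!![1, 0; t, 1], !![1, 0; -t, 1], by
    ext i j; fin_cases i <;> fin_cases j <;> simp [Matrix.mul_apply, Fin.sum_univ_two], by
    ext i j; fin_cases i <;> fin_cases j <;> simp [Matrix.mul_apply, Fin.sum_univ_two]⟩

/-- diagonal torus element -/
def dT (l : (ZMod p)ˣ) : GL (Fin 2) (ZMod p) :=
  ⟨!![(l : ZMod p), 0; 0, ((l⁻¹ : (ZMod p)ˣ) : ZMod p)],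
    !![((l⁻¹ : (ZMod p)ˣ) : ZMod p), 0; 0, (l : ZMod p)], by
    rw [Matrix.mul_fin_two, Matrix.one_fin_two]
    simp only [mul_zero, zero_mul, add_zero, zero_add, Units.mul_inv, Units.inv_mul], by
    rw [Matrix.mul_fin_two, Matrix.one_fin_two]
    simp only [mul_zero, zero_mul, add_zero, zero_add, Units.mul_inv, Units.inv_mul]⟩

theorem xT_val (t : ZMod p) : ((xT p t : GL (Fin 2) (ZMod p)) : Matrix (Fin 2) (Fin 2) (ZMod p)) =
    !![1, t; 0, 1] := rfl

theorem yT_val (t : ZMod p) : ((yT p t : GL (Fin 2) (ZMod p)) : Matrix (Fin 2) (Fin 2) (ZMod p)) =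
    !![1, 0; t, 1] := rfl

theorem dT_val (l : (ZMod p)ˣ) :
    ((dT p l : GL (Fin 2) (ZMod p)) : Matrix (Fin 2) (Fin 2) (ZMod p)) =
    !![(l : ZMod p), 0; 0, ((l⁻¹ : (ZMod p)ˣ) : ZMod p)] := rfl

theorem xT_mul (s t : ZMod p) : xT p s * xT p t = xT p (s + t) := by
  apply Units.ext
  rw [Units.val_mul, xT_val, xT_val, xT_val]
  ext i j; fin_cases i <;> fin_cases j <;> simp [Matrix.mul_apply, Fin.sum_univ_two, add_comm]

theorem yT_mul (s t : ZMod p) : yT p s * yT p t = yT p (s + t) := by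
  apply Units.ext
  rw [Units.val_mul, yT_val, yT_val, yT_val]
  ext i j; fin_cases i <;> fin_cases j <;> simp [Matrix.mul_apply, Fin.sum_univ_two]

theorem xT_zero : xT p 0 = 1 := by
  apply Units.ext
  rw [xT_val]
  ext i j; fin_cases i <;> fin_cases j <;> simp

theorem yT_zero : yT p 0 = 1 := by
  apply Units.ext
  rw [yT_val]
  ext i j; fin_cases i <;> fin_cases j <;> simp

theorem xT_pow (t : ZMod p) (n : ℕ) : xT p t ^ n = xT p (n * t) := by
  induction n with
  | zero => simp [xT_zero]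
  | succ k ih =>
    rw [pow_succ, ih, xT_mul]
    congr 1
    push_cast
    ring

theorem yT_pow (t : ZMod p) (n : ℕ) : yT p t ^ n = yT p (n * t) := by
  induction n with
  | zero => simp [yT_zero]
  | succ k ih =>
    rw [pow_succ, ih, yT_mul]
    congr 1
    push_cast
    ring

theorem xT_ne_one {t : ZMod p} (ht : t ≠ 0) : xT p t ≠ 1 := by
  intro h
  have := congrArg (fun g : GL (Fin 2) (ZMod p) => (g : Matrix (Fin 2) (Fin 2) (ZMod p)) 0 1) h
  simp [xT_val] at this
  exact ht this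

theorem yT_ne_one {t : ZMod p} (ht : t ≠ 0) : yT p t ≠ 1 := by
  intro h
  have := congrArg (fun g : GL (Fin 2) (ZMod p) => (g : Matrix (Fin 2) (Fin 2) (ZMod p)) 1 0) h
  simp [yT_val] at this
  exact ht this

theorem orderOf_xT {t : ZMod p} (ht : t ≠ 0) : orderOf (xT p t) = p := by
  apply orderOf_eq_prime _ (xT_ne_one p ht)
  rw [xT_pow, ZMod.natCast_self, zero_mul, xT_zero]

theorem orderOf_yT {t : ZMod p} (ht : t ≠ 0) : orderOf (yT p t) = p := by
  apply orderOf_eq_prime _ (yT_ne_one p ht)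
  rw [yT_pow, ZMod.natCast_self, zero_mul, yT_zero]

theorem mat2_ext {R : Type*} {a b c d a' b' c' d' : R} (h1 : a = a') (h2 : b = b') (h3 : c = c')
    (h4 : d = d') : !![a, b; c, d] = !![a', b'; c', d'] := by
  subst h1 h2 h3 h4
  rfl

theorem dT_eq (l : (ZMod p)ˣ) :
    dT p l = xT p l * yT p (-((l⁻¹ : (ZMod p)ˣ) : ZMod p)) * xT p l * xT p (-1) * yT p 1 *
      xT p (-1) := by
  apply Units.ext
  simp only [Units.val_mul, xT_val, yT_val, dT_val]
  have hl : (l : ZMod p) * ((l⁻¹ : (ZMod p)ˣ) : ZMod p) = 1 := by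
    rw [← Units.val_mul, mul_inv_cancel, Units.val_one]
  simp only [Matrix.mul_fin_two]
  generalize ((l⁻¹ : (ZMod p)ˣ) : ZMod p) = m at hl ⊢
  generalize (l : ZMod p) = n at hl ⊢
  have h0 : (1 * 1 + n * -m) = 0 := by linear_combination -hl
  have h1 : (0 * 1 + 1 * -m) = -m := by ring
  simp only [h0, h1]
  apply mat2_ext
  · ring
  · ring
  · linear_combination hl
  · ring

section acts

variable {G : Type*} [Group G]

/-- `g` acts on the pair `(z, a)` by the matrix `M` -/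
def ActsBy (z a g : G) (M : Matrix (Fin 2) (Fin 2) (ZMod p)) : Prop :=
  g * z * g⁻¹ = pw p z (M 0 0) * pw p a (M 1 0) ∧ g * a * g⁻¹ = pw p z (M 0 1) * pw p a (M 1 1)

theorem conj_mul' (g x y : G) : g * (x * y) * g⁻¹ = (g * x * g⁻¹) * (g * y * g⁻¹) := by group

theorem pw_comb {z a : G} (hza : Commute z a) (hz : z ^ p = 1) (ha : a ^ p = 1)
    (i j k : ZMod p) :
    pw p (pw p z i * pw p a j) k = pw p z (i * k) * pw p a (j * k) := by
  rw [pw_mul_of_commute p (pw_comm_of_commute p hza i j), ← pw_mul p hz, ← pw_mul p ha]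

theorem actsBy_mul {z a : G} (hza : Commute z a) (hz : z ^ p = 1) (ha : a ^ p = 1)
    {g g' : G} {M M' : Matrix (Fin 2) (Fin 2) (ZMod p)} (h : ActsBy p z a g M)
    (h' : ActsBy p z a g' M') : ActsBy p z a (g * g') (M * M') := by
  obtain ⟨h1, h2⟩ := h
  obtain ⟨h1', h2'⟩ := h'
  have key : ∀ i j : ZMod p, g * (pw p z i * pw p a j) * g⁻¹ =
      pw p z (M 0 0 * i + M 0 1 * j) * pw p a (M 1 0 * i + M 1 1 * j) := by
    intro i j
    rw [conj_mul', conj_pw, conj_pw, h1, h2, pw_comb p hza hz ha, pw_comb p hza hz ha,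
      pw_add p hz, pw_add p ha]
    have c1 : Commute (pw p a (M 1 0 * i)) (pw p z (M 0 1 * j)) :=
      (pw_comm_of_commute p hza _ _).symm
    calc pw p z (M 0 0 * i) * pw p a (M 1 0 * i) * (pw p z (M 0 1 * j) * pw p a (M 1 1 * j))
        = pw p z (M 0 0 * i) * (pw p a (M 1 0 * i) * pw p z (M 0 1 * j)) * pw p a (M 1 1 * j) := by
          simp only [mul_assoc]
      _ = pw p z (M 0 0 * i) * (pw p z (M 0 1 * j) * pw p a (M 1 0 * i)) * pw p a (M 1 1 * j) := by
          rw [c1.eq]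
      _ = _ := by simp only [mul_assoc]
  constructor
  · have : g * g' * z * (g * g')⁻¹ = g * (g' * z * g'⁻¹) * g⁻¹ := by group
    rw [this, h1', key]
    congr 2 <;> simp [Matrix.mul_apply, Fin.sum_univ_two]
  · have : g * g' * a * (g * g')⁻¹ = g * (g' * a * g'⁻¹) * g⁻¹ := by group
    rw [this, h2', key]
    congr 2 <;> simp [Matrix.mul_apply, Fin.sum_univ_two]

/-- from both root groups to the torus -/
theorem exists_actsBy_dT {z a : G} (hza : Commute z a) (hz : z ^ p = 1) (ha : a ^ p = 1)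
    (hx : ∀ t : ZMod p, ∃ g : G, ActsBy p z a g (xT p t : GL (Fin 2) (ZMod p)))
    (hy : ∀ t : ZMod p, ∃ g : G, ActsBy p z a g (yT p t : GL (Fin 2) (ZMod p)))
    (l : (ZMod p)ˣ) :
    ∃ g : G, g * z * g⁻¹ = pw p z (l : ZMod p) ∧
      g * a * g⁻¹ = pw p a ((l⁻¹ : (ZMod p)ˣ) : ZMod p) := by
  obtain ⟨g1, h1⟩ := hx l
  obtain ⟨g2, h2⟩ := hy (-((l⁻¹ : (ZMod p)ˣ) : ZMod p))
  obtain ⟨g3, h3⟩ := hx (-1)
  obtain ⟨g4, h4⟩ := hy 1
  have h := actsBy_mul p hza hz ha (actsBy_mul p hza hz ha (actsBy_mul p hza hz ha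
    (actsBy_mul p hza hz ha (actsBy_mul p hza hz ha h1 h2) h1) h3) h4) h3
  simp only [← Units.val_mul] at h
  rw [← dT_eq] at h
  refine ⟨g1 * g2 * g1 * g3 * g4 * g3, ?_, ?_⟩
  · have := h.1
    rw [dT_val] at this
    simp only [Matrix.of_apply, Matrix.cons_val', Matrix.cons_val_zero, Matrix.cons_val_one,
      Matrix.cons_val_fin_one] at this
    rw [this, pw_zero, mul_one]
  · have := h.2
    rw [dT_val] at this
    simp only [Matrix.of_apply, Matrix.cons_val', Matrix.cons_val_zero, Matrix.cons_val_one,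
      Matrix.cons_val_fin_one] at this
    rw [this, pw_zero, one_mul]

end acts

end Cfsg.Agent.Lib.Helper5.Xsp
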