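import Mathlib
import Cfsg.Agent.Lib.Helper5.Xsp.T2

set_option autoImplicit false
set_option linter.unusedSectionVars false
set_option linter.style.haveILetI false

/-!
# Automorphisms of a coordinatised elementary abelian group of order `p²`
-/

namespace Cfsg.Agent.Lib.Helper5.Xsp

open Matrix

variable (p : ℕ) [hp : Fact p.Prime]

/-- `GL₂` acting on the multiplicative copy of the plane -/
def vecAut (M : GL (Fin 2) (ZMod p)) : MulAut (Multiplicative (Fin 2 → ZMod p)) where
  toFun v := Multiplicative.ofAdd ((M : Matrix (Fin 2) (Fin 2) (ZMod p)) *ᵥ Multiplicative.toAdd v)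
  invFun v := Multiplicative.ofAdd
    (((M⁻¹ : GL (Fin 2) (ZMod p)) : Matrix (Fin 2) (Fin 2) (ZMod p)) *ᵥ Multiplicative.toAdd v)
  left_inv v := by
    show Multiplicative.ofAdd (((M⁻¹ : GL (Fin 2) (ZMod p)) : Matrix (Fin 2) (Fin 2) (ZMod p)) *ᵥ
      ((M : Matrix (Fin 2) (Fin 2) (ZMod p)) *ᵥ Multiplicative.toAdd v)) = v
    rw [Matrix.mulVec_mulVec, ← Units.val_mul, inv_mul_cancel, Units.val_one, Matrix.one_mulVec]
    rfl
  right_inv v := by
    show Multiplicative.ofAdd ((M : Matrix (Fin 2) (Fin 2) (ZMod p)) *ᵥ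
      (((M⁻¹ : GL (Fin 2) (ZMod p)) : Matrix (Fin 2) (Fin 2) (ZMod p)) *ᵥ
        Multiplicative.toAdd v)) = v
    rw [Matrix.mulVec_mulVec, ← Units.val_mul, mul_inv_cancel, Units.val_one, Matrix.one_mulVec]
    rfl
  map_mul' v w := by
    show Multiplicative.ofAdd ((M : Matrix (Fin 2) (Fin 2) (ZMod p)) *ᵥ
      (Multiplicative.toAdd v + Multiplicative.toAdd w)) = _
    rw [Matrix.mulVec_add]
    rfl

variable {A : Type*} [Group A] (e : A ≃* Multiplicative (Fin 2 → ZMod p))

/-- the automorphism of `A` with matrix `M` -/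
def autOfHom : GL (Fin 2) (ZMod p) →* MulAut A where
  toFun M := (e.trans (vecAut p M)).trans e.symm
  map_one' := by
    ext a
    show e.symm (Multiplicative.ofAdd (((1 : GL (Fin 2) (ZMod p)) :
      Matrix (Fin 2) (Fin 2) (ZMod p)) *ᵥ Multiplicative.toAdd (e a))) = a
    rw [Units.val_one, Matrix.one_mulVec]
    exact e.symm_apply_apply a
  map_mul' M N := by
    ext a
    show e.symm (Multiplicative.ofAdd (((M * N : GL (Fin 2) (ZMod p)) :
      Matrix (Fin 2) (Fin 2) (ZMod p)) *ᵥ Multiplicative.toAdd (e a))) =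
      e.symm (Multiplicative.ofAdd ((M : Matrix (Fin 2) (Fin 2) (ZMod p)) *ᵥ
        Multiplicative.toAdd (e (e.symm (Multiplicative.ofAdd
          ((N : Matrix (Fin 2) (Fin 2) (ZMod p)) *ᵥ Multiplicative.toAdd (e a)))))))
    rw [e.apply_symm_apply, Units.val_mul, ← Matrix.mulVec_mulVec]
    rfl

theorem autOfHom_apply (M : GL (Fin 2) (ZMod p)) (a : A) :
    autOfHom p e M a = e.symm (Multiplicative.ofAdd
      ((M : Matrix (Fin 2) (Fin 2) (ZMod p)) *ᵥ Multiplicative.toAdd (e a))) := rfl

theorem autOfHom_injective : Function.Injective (autOfHom p e) := by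
  rw [injective_iff_map_eq_one]
  intro M hM
  apply Units.ext
  rw [Units.val_one]
  have h : ∀ w : Fin 2 → ZMod p, (M : Matrix (Fin 2) (Fin 2) (ZMod p)) *ᵥ w = w := by
    intro w
    have h1 := congrArg (fun φ : MulAut A => φ (e.symm (Multiplicative.ofAdd w))) hM
    simp only [autOfHom_apply, MulAut.one_apply, e.apply_symm_apply] at h1
    have h2 := e.symm.injective h1
    exact h2
  ext i j
  have := congrFun (h (Pi.single j 1)) i
  simpa [Matrix.mulVec_single_one, Matrix.one_apply, Pi.single_apply, eq_comm] using this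

theorem orderOf_autOfHom (M : GL (Fin 2) (ZMod p)) : orderOf (autOfHom p e M) = orderOf M :=
  orderOf_injective (autOfHom p e) (autOfHom_injective p e) M

end Cfsg.Agent.Lib.Helper5.Xsp
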