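import Mathlib
import Cfsg.Agent.Lib.Helper5.Xsp.T3

set_option autoImplicit false
set_option linter.unusedSectionVars false
set_option linter.style.haveILetI false

/-!
# Groups of order `p³` with centre of order `p`, central commutators and exponent `p`:
coordinates modulo the centre
-/

namespace Cfsg.Agent.Lib.Helper5.Xsp

open scoped commutatorElement

variable (p : ℕ) [hp : Fact p.Prime]

/-- the hypotheses on the group of order `p³` -/
structure Heis (E : Type*) [Group E] : Prop where
  pow : ∀ u : E, u ^ p = 1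
  comm : ∀ u v : E, ⁅u, v⁆ ∈ Subgroup.center E
  cardZ : Nat.card (Subgroup.center E) = p
  card : Nat.card E = p ^ 3

variable {p} {E : Type*} [Group E]

namespace Heis

variable (h : Heis p E)
include h

theorem finite : Finite E := by
  apply Nat.finite_of_card_ne_zero
  rw [h.card]
  exact pow_ne_zero _ hp.out.ne_zero

theorem comm_mul_left (u u' v : E) : ⁅u * u', v⁆ = ⁅u, v⁆ * ⁅u', v⁆ := by
  have hc := h.comm u' v
  rw [Subgroup.mem_center_iff] at hc
  have : ⁅u * u', v⁆ = u * ⁅u', v⁆ * v * u⁻¹ * v⁻¹ := by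
    simp only [commutatorElement_def]; group
  rw [this, hc u, hc ⁅u, v⁆]
  simp only [commutatorElement_def]; group

theorem comm_mul_right (u v v' : E) : ⁅u, v * v'⁆ = ⁅u, v⁆ * ⁅u, v'⁆ := by
  have hc := h.comm u v'
  rw [Subgroup.mem_center_iff] at hc
  have : ⁅u, v * v'⁆ = u * v * u⁻¹ * ⁅u, v'⁆ * v⁻¹ := by
    simp only [commutatorElement_def]; group
  rw [this, mul_assoc (u * v * u⁻¹), ← hc (v⁻¹)]
  simp only [commutatorElement_def]; group

theorem comm_central_left {c : E} (hc : c ∈ Subgroup.center E) (v : E) : ⁅c, v⁆ = 1 := by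
  rw [Subgroup.mem_center_iff] at hc
  rw [commutatorElement_def, ← hc v]
  group

theorem comm_central_right {c : E} (hc : c ∈ Subgroup.center E) (u : E) : ⁅u, c⁆ = 1 := by
  rw [Subgroup.mem_center_iff] at hc
  rw [commutatorElement_def, mul_assoc u, ← hc (u⁻¹)]
  group

/-- `u ↦ ⁅u, v⁆` as a homomorphism -/
def commL (v : E) : E →* E where
  toFun u := ⁅u, v⁆
  map_one' := commutatorElement_one_left v
  map_mul' u u' := h.comm_mul_left u u' v

/-- `v ↦ ⁅u, v⁆` as a homomorphism -/
def commR (u : E) : E →* E where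
  toFun v := ⁅u, v⁆
  map_one' := commutatorElement_one_right u
  map_mul' v v' := h.comm_mul_right u v v'

theorem comm_pw_left (u v : E) (k : ZMod p) : ⁅pw p u k, v⁆ = pw p ⁅u, v⁆ k :=
  map_pw p (h.commL v) u k

theorem comm_pw_right (u v : E) (k : ZMod p) : ⁅u, pw p v k⁆ = pw p ⁅u, v⁆ k :=
  map_pw p (h.commR u) v k

theorem mk_comm (a b : E ⧸ Subgroup.center E) : a * b = b * a := by
  induction a using QuotientGroup.induction_on with
  | H u =>
    induction b using QuotientGroup.induction_on with
    | H v =>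
      rw [← QuotientGroup.mk_mul, ← QuotientGroup.mk_mul, QuotientGroup.eq]
      have := h.comm v⁻¹ u⁻¹
      have e : (u * v)⁻¹ * (v * u) = ⁅v⁻¹, u⁻¹⁆ := by
        rw [commutatorElement_def]; group
      rw [e]
      exact this

theorem mk_pow (a : E ⧸ Subgroup.center E) : a ^ p = 1 := by
  induction a using QuotientGroup.induction_on with
  | H u => rw [← QuotientGroup.mk_pow, h.pow, QuotientGroup.mk_one]

theorem card_quot : Nat.card (E ⧸ Subgroup.center E) = p ^ 2 := by
  have h1 := Subgroup.card_eq_card_quotient_mul_card_subgroup (Subgroup.center E)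
  rw [h.card, h.cardZ] at h1
  have hp0 : 0 < p := hp.out.pos
  have : p ^ 3 = p ^ 2 * p := by ring
  rw [this] at h1
  exact (Nat.eq_of_mul_eq_mul_right hp0 h1).symm

end Heis

end Cfsg.Agent.Lib.Helper5.Xsp
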