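import Mathlib
import Cfsg.Agent.Lib.Helper5.Xsp.E1

set_option autoImplicit false
set_option linter.unusedSectionVars false
set_option linter.style.haveILetI false

/-!
# Coordinates modulo the centre
-/

namespace Cfsg.Agent.Lib.Helper5.Xsp

open scoped commutatorElement

variable {p : ℕ} [hp : Fact p.Prime] {E : Type*} [Group E]

namespace Heis

variable (h : Heis p E) (x y : E) (hxy : ⁅x, y⁆ ≠ 1)
include h hxy

theorem mk_x_ne_one : (QuotientGroup.mk x : E ⧸ Subgroup.center E) ≠ 1 := by
  intro h1
  rw [QuotientGroup.eq_one_iff] at h1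
  exact hxy (h.comm_central_left h1 y)

theorem mk_y_not_mem :
    (QuotientGroup.mk y : E ⧸ Subgroup.center E) ∉ Subgroup.zpowers (QuotientGroup.mk x) := by
  intro h1
  obtain ⟨k, hk⟩ := Subgroup.mem_zpowers_iff.mp h1
  rw [← QuotientGroup.mk_zpow, QuotientGroup.eq] at hk
  -- (x^k)⁻¹ * y central
  apply hxy
  have h2 : y = x ^ k * ((x ^ k)⁻¹ * y) := by group
  rw [h2, h.comm_mul_right, h.comm_central_right hk, mul_one]
  rw [commutatorElement_eq_one_iff_commute]
  exact (Commute.refl x).zpow_right k

theorem exists_eQ : ∃ e : (E ⧸ Subgroup.center E) ≃* Multiplicative (Fin 2 → ZMod p),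
    ∀ i j : ZMod p, e (pw p (QuotientGroup.mk x) i * pw p (QuotientGroup.mk y) j) =
      Multiplicative.ofAdd ![i, j] := by
  haveI := h.finite
  exact exists_coord p h.mk_comm h.mk_pow h.card_quot _ _ (h.mk_x_ne_one x y hxy)
    (h.mk_y_not_mem x y hxy)

/-- coordinates on the central quotient -/
noncomputable def eQ : (E ⧸ Subgroup.center E) ≃* Multiplicative (Fin 2 → ZMod p) :=
  Classical.choose (h.exists_eQ x y hxy)

theorem eQ_spec (i j : ZMod p) :
    h.eQ x y hxy (pw p (QuotientGroup.mk x) i * pw p (QuotientGroup.mk y) j) =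
      Multiplicative.ofAdd ![i, j] :=
  Classical.choose_spec (h.exists_eQ x y hxy) i j

/-- the coordinate vector of an element -/
noncomputable def kap (u : E) : Fin 2 → ZMod p :=
  Multiplicative.toAdd (h.eQ x y hxy (QuotientGroup.mk u))

/-- the standard element with given coordinates -/
def sec (_h : Heis p E) (x y : E) (w : Fin 2 → ZMod p) : E := pw p x (w 0) * pw p y (w 1)

theorem kap_mul (u v : E) : h.kap x y hxy (u * v) = h.kap x y hxy u + h.kap x y hxy v := by
  unfold kap
  rw [QuotientGroup.mk_mul, map_mul]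
  rfl

theorem kap_one : h.kap x y hxy 1 = 0 := by
  unfold kap
  rw [QuotientGroup.mk_one, map_one]
  rfl

theorem kap_eq_zero_iff (u : E) : h.kap x y hxy u = 0 ↔ u ∈ Subgroup.center E := by
  unfold kap
  constructor
  · intro h0
    have h1 : h.eQ x y hxy (QuotientGroup.mk u) = 1 := h0
    rw [map_eq_one_iff _ (h.eQ x y hxy).injective, QuotientGroup.eq_one_iff] at h1
    exact h1
  · intro hu
    rw [(QuotientGroup.eq_one_iff u).mpr hu, map_one]
    rfl

theorem mk_pw (u : E) (k : ZMod p) :
    (QuotientGroup.mk (pw p u k) : E ⧸ Subgroup.center E) = pw p (QuotientGroup.mk u) k :=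
  map_pw p (QuotientGroup.mk' (Subgroup.center E)) u k

omit h hxy in
theorem vec2_eta (w : Fin 2 → ZMod p) : ![w 0, w 1] = w := by
  funext i
  fin_cases i <;> rfl

theorem kap_sec (w : Fin 2 → ZMod p) : h.kap x y hxy (sec h x y w) = w := by
  unfold kap sec
  rw [QuotientGroup.mk_mul, mk_pw h x y hxy, mk_pw h x y hxy, h.eQ_spec x y hxy]
  exact vec2_eta w

theorem kap_inv (u : E) : h.kap x y hxy u⁻¹ = - h.kap x y hxy u := by
  have := h.kap_mul x y hxy u u⁻¹
  rw [mul_inv_cancel, kap_one] at this
  exact eq_neg_of_add_eq_zero_right this.symm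

/-- equal coordinates: the elements differ by a central element -/
theorem exists_central_of_kap_eq {u v : E} (huv : h.kap x y hxy u = h.kap x y hxy v) :
    ∃ c ∈ Subgroup.center E, u = v * c := by
  refine ⟨v⁻¹ * u, ?_, by group⟩
  rw [← h.kap_eq_zero_iff x y hxy, kap_mul, kap_inv, huv, neg_add_cancel]

theorem kap_mul_central (u : E) {c : E} (hc : c ∈ Subgroup.center E) :
    h.kap x y hxy (u * c) = h.kap x y hxy u := by
  rw [kap_mul, (h.kap_eq_zero_iff x y hxy c).mpr hc, add_zero]

theorem kap_pow (u : E) (n : ℕ) : h.kap x y hxy (u ^ n) = (n : ZMod p) • h.kap x y hxy u := by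
  induction n with
  | zero => simp [kap_one]
  | succ k ih =>
    rw [pow_succ, kap_mul, ih]
    push_cast
    rw [add_smul, one_smul]

theorem kap_pw (u : E) (k : ZMod p) : h.kap x y hxy (pw p u k) = k • h.kap x y hxy u := by
  unfold pw
  rw [kap_pow, ZMod.natCast_zmod_val]

theorem kap_x : h.kap x y hxy x = ![1, 0] := by
  have := h.kap_sec x y hxy ![1, 0]
  unfold sec at this
  simpa [pw_one, pw_zero] using this

theorem kap_y : h.kap x y hxy y = ![0, 1] := by
  have := h.kap_sec x y hxy ![0, 1]
  unfold sec at this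
  simpa [pw_one, pw_zero] using this

end Heis

end Cfsg.Agent.Lib.Helper5.Xsp
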