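import Mathlib
import Cfsg.Agent.Lib.Helper5.Xsp.E2

set_option autoImplicit false
set_option linter.unusedSectionVars false
set_option linter.style.haveILetI false

/-!
# The action of automorphisms on the central quotient, in coordinates
-/

namespace Cfsg.Agent.Lib.Helper5.Xsp

open scoped commutatorElement
open Matrix

variable {p : ℕ} [hp : Fact p.Prime] {E : Type*} [Group E]

theorem aut_center (α : MulAut E) {c : E} (hc : c ∈ Subgroup.center E) :
    α c ∈ Subgroup.center E := by
  rw [Subgroup.mem_center_iff] at hc ⊢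
  intro g
  have := hc (α.symm g)
  have h2 := congrArg α this
  rw [map_mul, map_mul, MulEquiv.apply_symm_apply] at h2
  exact h2

namespace Heis

variable (h : Heis p E) (x y : E) (hxy : ⁅x, y⁆ ≠ 1)
include h hxy

theorem kap_aut_congr (α : MulAut E) {u v : E} (huv : h.kap x y hxy u = h.kap x y hxy v) :
    h.kap x y hxy (α u) = h.kap x y hxy (α v) := by
  obtain ⟨c, hc, rfl⟩ := h.exists_central_of_kap_eq x y hxy huv
  rw [map_mul, h.kap_mul_central x y hxy _ (aut_center α hc)]

/-- the additive map induced by an automorphism -/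
noncomputable def phi (α : MulAut E) : (Fin 2 → ZMod p) →+ (Fin 2 → ZMod p) :=
  AddMonoidHom.mk' (fun w => h.kap x y hxy (α (sec h x y w))) (by
    intro w w'
    have h1 : h.kap x y hxy (sec h x y (w + w')) = h.kap x y hxy (sec h x y w * sec h x y w') := by
      rw [kap_mul, kap_sec, kap_sec, kap_sec]
    show h.kap x y hxy (α (sec h x y (w + w'))) = _
    rw [h.kap_aut_congr x y hxy α h1, map_mul, kap_mul])

theorem phi_apply (α : MulAut E) (w : Fin 2 → ZMod p) :
    h.phi x y hxy α w = h.kap x y hxy (α (sec h x y w)) := rfl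

theorem kap_aut (α : MulAut E) (u : E) :
    h.kap x y hxy (α u) = h.phi x y hxy α (h.kap x y hxy u) := by
  rw [phi_apply]
  apply h.kap_aut_congr x y hxy α
  rw [kap_sec]

/-- the matrix of an automorphism -/
noncomputable def psi (α : MulAut E) : Matrix (Fin 2) (Fin 2) (ZMod p) :=
  LinearMap.toMatrix' ((h.phi x y hxy α).toZModLinearMap p)

theorem psi_mulVec (α : MulAut E) (w : Fin 2 → ZMod p) :
    h.psi x y hxy α *ᵥ w = h.phi x y hxy α w := by
  unfold psi
  rw [LinearMap.toMatrix'_mulVec]
  rfl

theorem psi_mul (α β : MulAut E) : h.psi x y hxy (α * β) = h.psi x y hxy α * h.psi x y hxy β := by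
  unfold psi
  rw [← LinearMap.toMatrix'_comp]
  congr 1
  apply LinearMap.ext
  intro w
  show h.phi x y hxy (α * β) w = h.phi x y hxy α (h.phi x y hxy β w)
  rw [phi_apply, MulAut.mul_apply, kap_aut, ← phi_apply]

theorem psi_one : h.psi x y hxy 1 = 1 := by
  unfold psi
  rw [← LinearMap.toMatrix'_id]
  congr 1
  apply LinearMap.ext
  intro w
  show h.phi x y hxy 1 w = w
  rw [phi_apply, MulAut.one_apply, kap_sec]

/-- the representation on the central quotient -/
noncomputable def rho : MulAut E →* GL (Fin 2) (ZMod p) :=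
  MonoidHom.toHomUnits
    { toFun := h.psi x y hxy
      map_one' := h.psi_one x y hxy
      map_mul' := h.psi_mul x y hxy }

theorem rho_val (α : MulAut E) :
    ((h.rho x y hxy α : GL (Fin 2) (ZMod p)) : Matrix (Fin 2) (Fin 2) (ZMod p)) =
      h.psi x y hxy α := rfl

theorem kap_aut' (α : MulAut E) (u : E) :
    h.kap x y hxy (α u) =
      ((h.rho x y hxy α : GL (Fin 2) (ZMod p)) : Matrix (Fin 2) (Fin 2) (ZMod p)) *ᵥ
        h.kap x y hxy u := by
  rw [rho_val, psi_mulVec, kap_aut]

theorem rho_conj (u : E) : h.rho x y hxy (MulAut.conj u) = 1 := by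
  apply Units.ext
  rw [rho_val, Units.val_one]
  unfold psi
  rw [← LinearMap.toMatrix'_id]
  congr 1
  apply LinearMap.ext
  intro w
  show h.phi x y hxy (MulAut.conj u) w = w
  rw [phi_apply, MulAut.conj_apply, kap_mul, kap_mul, kap_inv, kap_sec]
  abel

end Heis

end Cfsg.Agent.Lib.Helper5.Xsp
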