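import Mathlib
import Cfsg.Agent.Lib.Helper5.Xsp.E3

set_option autoImplicit false
set_option linter.unusedSectionVars false
set_option linter.style.haveILetI false

/-!
# The action of an automorphism on the centre is the determinant
-/

namespace Cfsg.Agent.Lib.Helper5.Xsp

open scoped commutatorElement
open Matrix

variable {p : ℕ} [hp : Fact p.Prime] {E : Type*} [Group E]

namespace Heis

variable (h : Heis p E) (x y : E) (hxy : ⁅x, y⁆ ≠ 1)
include h

theorem comm_sec_sec (a b c d : ZMod p) {c₁ c₂ : E} (hc₁ : c₁ ∈ Subgroup.center E)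
    (hc₂ : c₂ ∈ Subgroup.center E) :
    ⁅pw p x a * pw p y b * c₁, pw p x c * pw p y d * c₂⁆ = pw p ⁅x, y⁆ (a * d - b * c) := by
  have hz : ⁅x, y⁆ ^ p = 1 := h.pow _
  set V := pw p x c * pw p y d * c₂ with hV
  have hxV : ⁅x, V⁆ = pw p ⁅x, y⁆ d := by
    rw [hV, h.comm_mul_right, h.comm_mul_right, h.comm_central_right hc₂, mul_one,
      h.comm_pw_right, h.comm_pw_right, commutatorElement_self, pw_one_left, one_mul]
  have hyV : ⁅y, V⁆ = pw p ⁅x, y⁆ (-c) := by
    rw [hV, h.comm_mul_right, h.comm_mul_right, h.comm_central_right hc₂, mul_one,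
      h.comm_pw_right, h.comm_pw_right, commutatorElement_self, pw_one_left, mul_one,
      ← commutatorElement_inv x y, pw_neg p hz]
    unfold pw
    rw [inv_pow]
  rw [h.comm_mul_left, h.comm_mul_left, h.comm_central_left hc₁, mul_one, h.comm_pw_left,
    h.comm_pw_left, hxV, hyV, ← pw_mul p hz, ← pw_mul p hz, ← pw_add p hz]
  congr 1
  ring

include hxy in
theorem aut_comm (α : MulAut E) :
    α ⁅x, y⁆ = pw p ⁅x, y⁆
      (((h.rho x y hxy α : GL (Fin 2) (ZMod p)) : Matrix (Fin 2) (Fin 2) (ZMod p)).det) := by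
  set M := ((h.rho x y hxy α : GL (Fin 2) (ZMod p)) : Matrix (Fin 2) (Fin 2) (ZMod p)) with hM
  have hkx : h.kap x y hxy (α x) = ![M 0 0, M 1 0] := by
    rw [h.kap_aut' x y hxy, ← hM, h.kap_x x y hxy]
    funext i
    fin_cases i <;> simp [Matrix.mulVec, dotProduct, Fin.sum_univ_two]
  have hky : h.kap x y hxy (α y) = ![M 0 1, M 1 1] := by
    rw [h.kap_aut' x y hxy, ← hM, h.kap_y x y hxy]
    funext i
    fin_cases i <;> simp [Matrix.mulVec, dotProduct, Fin.sum_univ_two]
  obtain ⟨c₁, hc₁, e₁⟩ := h.exists_central_of_kap_eq x y hxy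
    (u := α x) (v := sec h x y ![M 0 0, M 1 0]) (by rw [hkx, kap_sec])
  obtain ⟨c₂, hc₂, e₂⟩ := h.exists_central_of_kap_eq x y hxy
    (u := α y) (v := sec h x y ![M 0 1, M 1 1]) (by rw [hky, kap_sec])
  rw [map_commutatorElement, e₁, e₂]
  unfold sec
  simp only [Matrix.cons_val_zero, Matrix.cons_val_one]
  rw [h.comm_sec_sec x y _ _ _ _ hc₁ hc₂, Matrix.det_fin_two]
  congr 1
  ring

include hxy in
theorem aut_central (α : MulAut E) {c : E} (hc : c ∈ Subgroup.center E) :
    α c = pw p c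
      (((h.rho x y hxy α : GL (Fin 2) (ZMod p)) : Matrix (Fin 2) (Fin 2) (ZMod p)).det) := by
  have hz : ⁅x, y⁆ ^ p = 1 := h.pow _
  -- the centre is generated by ⁅x, y⁆
  have hgen : c ∈ Subgroup.zpowers ⁅x, y⁆ := by
    have h1 : (⟨⁅x, y⁆, h.comm x y⟩ : Subgroup.center E) ≠ 1 := by
      intro h0
      apply hxy
      exact congrArg Subtype.val h0
    have h2 := zpowers_eq_top_of_prime_card h.cardZ h1
    have h3 : (⟨c, hc⟩ : Subgroup.center E) ∈ Subgroup.zpowers
        (⟨⁅x, y⁆, h.comm x y⟩ : Subgroup.center E) := by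
      rw [h2]; exact Subgroup.mem_top _
    obtain ⟨n, hn⟩ := Subgroup.mem_zpowers_iff.mp h3
    rw [Subgroup.mem_zpowers_iff]
    refine ⟨n, ?_⟩
    have := congrArg Subtype.val hn
    simpa using this
  obtain ⟨k, rfl⟩ := exists_pw_of_mem_zpowers p hz hgen
  have hmp : α (pw p ⁅x, y⁆ k) = pw p (α ⁅x, y⁆) k := map_pw p α.toMonoidHom _ _
  rw [hmp, h.aut_comm x y hxy, ← pw_mul p hz, ← pw_mul p hz, mul_comm]

end Heis

end Cfsg.Agent.Lib.Helper5.Xsp
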