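import Mathlib
import Cfsg.Agent.Lib.Helper5.Xsp.E4

set_option autoImplicit false
set_option linter.unusedSectionVars false
set_option linter.style.haveILetI false

/-!
# More on the groups of order `p³`: the centre and conjugation
-/

namespace Cfsg.Agent.Lib.Helper5.Xsp

open scoped commutatorElement

variable {p : ℕ} [hp : Fact p.Prime] {E : Type*} [Group E]

namespace Heis

variable (h : Heis p E)
include h

theorem exists_pw_of_central {z : E} (hz : z ∈ Subgroup.center E) (hz1 : z ≠ 1) {c : E}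
    (hc : c ∈ Subgroup.center E) : ∃ k : ZMod p, c = pw p z k := by
  have h1 : (⟨z, hz⟩ : Subgroup.center E) ≠ 1 := by
    intro h0
    apply hz1
    exact congrArg Subtype.val h0
  have h2 := zpowers_eq_top_of_prime_card h.cardZ h1
  have h3 : (⟨c, hc⟩ : Subgroup.center E) ∈ Subgroup.zpowers (⟨z, hz⟩ : Subgroup.center E) := by
    rw [h2]; exact Subgroup.mem_top _
  obtain ⟨n, hn⟩ := Subgroup.mem_zpowers_iff.mp h3
  apply exists_pw_of_mem_zpowers p (h.pow z)
  rw [Subgroup.mem_zpowers_iff]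
  refine ⟨n, ?_⟩
  have := congrArg Subtype.val hn
  simpa using this

theorem conj_eq_mul_comm (u a : E) : u * a * u⁻¹ = a * ⁅u, a⁆ := by
  have hc := h.comm u a
  rw [Subgroup.mem_center_iff] at hc
  rw [hc a, commutatorElement_def]
  group

theorem exists_conj_eq {z : E} (hz : z ∈ Subgroup.center E) (hz1 : z ≠ 1) (u a : E) :
    ∃ k : ZMod p, u * a * u⁻¹ = a * pw p z k := by
  obtain ⟨k, hk⟩ := h.exists_pw_of_central hz hz1 (h.comm u a)
  exact ⟨k, by rw [h.conj_eq_mul_comm, hk]⟩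

theorem exists_conj_eq_surj {z : E} (hz : z ∈ Subgroup.center E) (hz1 : z ≠ 1) {a : E}
    (ha : a ∉ Subgroup.center E) (k : ZMod p) : ∃ u : E, u * a * u⁻¹ = a * pw p z k := by
  -- some `u₀` does not commute with `a`
  obtain ⟨u₀, hu₀⟩ : ∃ u₀ : E, ⁅u₀, a⁆ ≠ 1 := by
    by_contra hcon
    push Not at hcon
    apply ha
    rw [Subgroup.mem_center_iff]
    intro g
    have := hcon g
    rw [commutatorElement_eq_one_iff_commute] at this
    exact this.eq
  obtain ⟨k₀, hk₀⟩ := h.exists_pw_of_central hz hz1 (h.comm u₀ a)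
  have hk0 : k₀ ≠ 0 := by
    intro h0
    apply hu₀
    rw [hk₀, h0, pw_zero]
  refine ⟨pw p u₀ (k * k₀⁻¹), ?_⟩
  rw [h.conj_eq_mul_comm, h.comm_pw_left, hk₀, ← pw_mul p (h.pow z)]
  congr 2
  field_simp

/-- non-commuting elements have independent coordinates -/
theorem kap_dt_ne_zero (x y : E) (hxy : ⁅x, y⁆ ≠ 1) (u v : E) (huv : ⁅u, v⁆ ≠ 1) :
    h.kap x y hxy u 0 * h.kap x y hxy v 1 - h.kap x y hxy u 1 * h.kap x y hxy v 0 ≠ 0 := by
  obtain ⟨c₁, hc₁, e₁⟩ := h.exists_central_of_kap_eq x y hxy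
    (u := u) (v := sec h x y (h.kap x y hxy u)) (by rw [kap_sec])
  obtain ⟨c₂, hc₂, e₂⟩ := h.exists_central_of_kap_eq x y hxy
    (u := v) (v := sec h x y (h.kap x y hxy v)) (by rw [kap_sec])
  intro h0
  apply huv
  rw [e₁, e₂]
  unfold sec
  rw [h.comm_sec_sec x y _ _ _ _ hc₁ hc₂, h0, pw_zero]

end Heis

end Cfsg.Agent.Lib.Helper5.Xsp
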