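import Mathlib
import Cfsg.Agent.Lib.Helper5.Xsp.T2

set_option autoImplicit false
set_option linter.unusedSectionVars false
set_option linter.style.haveILetI false

/-!
# A Frattini argument: moving a torus element into the normaliser of the Sylow subgroup
-/

namespace Cfsg.Agent.Lib.Helper5.Xsp

variable {p : ℕ} [hp : Fact p.Prime] {G : Type*} [Group G]

/-- the group of elements acting on `(z, a)` as a transvection with axis `z` -/
def rootStab (p : ℕ) [Fact p.Prime] (z a : G) (hz : z ^ p = 1) (hza : Commute z a) : Subgroup G where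
  carrier := {h | h * z * h⁻¹ = z ∧ ∃ k : ZMod p, h * a * h⁻¹ = a * pw p z k}
  one_mem' := ⟨by group, 0, by rw [pw_zero]; group⟩
  mul_mem' := by
    rintro h h' ⟨h1, k, hk⟩ ⟨h1', k', hk'⟩
    refine ⟨?_, k + k', ?_⟩
    · have : h * h' * z * (h * h')⁻¹ = h * (h' * z * h'⁻¹) * h⁻¹ := by group
      rw [this, h1', h1]
    · have : h * h' * a * (h * h')⁻¹ = h * (h' * a * h'⁻¹) * h⁻¹ := by group
      rw [this, hk', conj_mul', hk, conj_pw, h1, pw_add p hz, mul_assoc]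
  inv_mem' := by
    rintro h ⟨h1, k, hk⟩
    have h1' : h⁻¹ * z * h⁻¹⁻¹ = z := by
      have : h⁻¹ * z * h⁻¹⁻¹ = h⁻¹ * (h * z * h⁻¹) * h := by rw [h1, inv_inv]
      rw [this]; group
    refine ⟨h1', -k, ?_⟩
    have e : a = h⁻¹ * (a * pw p z k) * h⁻¹⁻¹ := by
      rw [← hk]; group
    have e2 : h⁻¹ * (a * pw p z k) * h⁻¹⁻¹ = (h⁻¹ * a * h⁻¹⁻¹) * pw p z k := by
      rw [conj_mul', conj_pw, h1']
    rw [e2] at e
    rw [pw_neg p hz]
    exact (eq_mul_inv_of_mul_eq e.symm)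

theorem mem_rootStab {z a : G} (hz : z ^ p = 1) (hza : Commute z a) (h : G) :
    h ∈ rootStab p z a hz hza ↔ h * z * h⁻¹ = z ∧ ∃ k : ZMod p, h * a * h⁻¹ = a * pw p z k :=
  Iff.rfl

theorem conj_inv_eq_pw {z : G} (hz : z ^ p = 1) {g : G} {l : (ZMod p)ˣ}
    (hg : g * z * g⁻¹ = pw p z (l : ZMod p)) :
    g⁻¹ * z * g = pw p z ((l⁻¹ : (ZMod p)ˣ) : ZMod p) := by
  have hw : (g⁻¹ * z * g) ^ p = 1 := by
    have : g⁻¹ * z * g = g⁻¹ * z * g⁻¹⁻¹ := by rw [inv_inv]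
    rw [this, conj_pow, hz]; group
  have h1 : z = pw p (g⁻¹ * z * g) (l : ZMod p) := by
    have : g⁻¹ * z * g = g⁻¹ * z * g⁻¹⁻¹ := by rw [inv_inv]
    rw [this, ← conj_pw, ← hg]; group
  have h2 : pw p z ((l⁻¹ : (ZMod p)ˣ) : ZMod p) =
      pw p (pw p (g⁻¹ * z * g) (l : ZMod p)) ((l⁻¹ : (ZMod p)ˣ) : ZMod p) := by rw [← h1]
  rw [h2, ← pw_mul p hw, ← Units.val_mul, mul_inv_cancel, Units.val_one, pw_one]

theorem frattini_adjust [Finite G] (P : Sylow p G) (z a : G) (hz : z ^ p = 1) (ha : a ^ p = 1)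
    (hza : Commute z a)
    (hPz : ∀ u ∈ P, u * z * u⁻¹ = z)
    (hPa : ∀ u ∈ P, ∃ k : ZMod p, u * a * u⁻¹ = a * pw p z k)
    (hPsurj : ∀ k : ZMod p, ∃ u ∈ P, u * a * u⁻¹ = a * pw p z k)
    (l l' : (ZMod p)ˣ) (g : G) (hgz : g * z * g⁻¹ = pw p z (l : ZMod p))
    (hga : g * a * g⁻¹ = pw p a (l' : ZMod p)) :
    ∃ n ∈ Subgroup.normalizer ((P : Subgroup G) : Set G),
      n * z * n⁻¹ = pw p z (l : ZMod p) ∧ n * a * n⁻¹ = pw p a (l' : ZMod p) := by
  classical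
  set B := rootStab p z a hz hza with hB
  have hPB : (P : Subgroup G) ≤ B := by
    intro u hu
    exact ⟨hPz u hu, hPa u hu⟩
  have hgz' := conj_inv_eq_pw hz hgz
  have hga' := conj_inv_eq_pw ha hga
  -- the conjugate of `P` by `g` lies in `B`
  have hgPB : ((g • P : Sylow p G) : Subgroup G) ≤ B := by
    intro w hw
    rw [Sylow.coe_subgroup_smul, Subgroup.mem_pointwise_smul_iff_inv_smul_mem] at hw
    have e0 : (MulAut.conj g)⁻¹ • w = g⁻¹ * w * g := by
      rw [← map_inv, MulAut.smul_def, MulAut.conj_apply, inv_inv]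
    rw [e0] at hw
    set u := g⁻¹ * w * g with hu
    have hw' : w = g * u * g⁻¹ := by
      rw [hu]; group
    have hu2 : u ∈ (P : Subgroup G) := hw
    obtain ⟨k, hk⟩ := hPa u hu2
    have hzu := hPz u hu2
    rw [hw']
    refine ⟨?_, (l : ZMod p) * (k * ((l'⁻¹ : (ZMod p)ˣ) : ZMod p)), ?_⟩
    · have e1 : g * u * g⁻¹ * z * (g * u * g⁻¹)⁻¹ = g * (u * (g⁻¹ * z * g) * u⁻¹) * g⁻¹ := by group
      rw [e1, hgz', conj_pw, hzu, conj_pw, hgz, ← pw_mul p hz, ← Units.val_mul, mul_inv_cancel,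
        Units.val_one, pw_one]
    · have e1 : g * u * g⁻¹ * a * (g * u * g⁻¹)⁻¹ = g * (u * (g⁻¹ * a * g) * u⁻¹) * g⁻¹ := by group
      rw [e1, hga', conj_pw, hk, conj_pw, conj_mul', hga, conj_pw, hgz]
      have hc : Commute (pw p a (l' : ZMod p)) (pw p (pw p z (l : ZMod p)) k) :=
        (pw_comm_of_commute p (pw_comm_of_commute p hza _ _) k 1).symm.pow_right 1 |> fun h => by
          simpa [pw_one] using h
      rw [pw_mul_of_commute p hc, ← pw_mul p ha, ← Units.val_mul, mul_inv_cancel, Units.val_one,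
        pw_one, ← pw_mul p hz, ← pw_mul p hz, mul_assoc]
  -- Sylow conjugacy in `B`
  haveI : Finite ↥B := inferInstance
  obtain ⟨b, hb⟩ := MulAction.exists_smul_eq ↥B (P.subtype hPB) ((g • P).subtype hgPB)
  -- `b P b⁻¹ ≤ g P g⁻¹`
  have hle : (((b : G) • P : Sylow p G) : Subgroup G) ≤ ((g • P : Sylow p G) : Subgroup G) := by
    intro w hw
    rw [Sylow.coe_subgroup_smul, Subgroup.mem_pointwise_smul_iff_inv_smul_mem] at hw
    have e0 : (MulAut.conj (b : G))⁻¹ • w = (b : G)⁻¹ * w * (b : G) := by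
      rw [← map_inv, MulAut.smul_def, MulAut.conj_apply, inv_inv]
    rw [e0] at hw
    set u := (b : G)⁻¹ * w * (b : G) with hu
    have hw' : w = (b : G) * u * (b : G)⁻¹ := by
      rw [hu]; group
    have h1 : (⟨u, hPB hw⟩ : ↥B) ∈ ((P.subtype hPB : Sylow p ↥B) : Subgroup ↥B) := by
      rw [Sylow.coe_subtype, Subgroup.mem_subgroupOf]
      exact hw
    have h2 : b * (⟨u, hPB hw⟩ : ↥B) * b⁻¹ ∈ ((b • P.subtype hPB : Sylow p ↥B) : Subgroup ↥B) := by
      rw [Sylow.coe_subgroup_smul, Subgroup.mem_pointwise_smul_iff_inv_smul_mem]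
      have e1 : (MulAut.conj b)⁻¹ • (b * (⟨u, hPB hw⟩ : ↥B) * b⁻¹) = ⟨u, hPB hw⟩ := by
        rw [← map_inv, MulAut.smul_def, MulAut.conj_apply, inv_inv]
        group
      rw [e1]
      exact h1
    rw [hb, Sylow.coe_subtype, Subgroup.mem_subgroupOf] at h2
    rw [hw']
    exact h2
  have heq : ((b : G) • P : Sylow p G) = g • P := by
    apply Sylow.ext
    exact (((b : G) • P : Sylow p G).is_maximal' (g • P : Sylow p G).isPGroup' hle).symm
  set m := (b : G)⁻¹ * g with hm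
  have hmN : m ∈ Subgroup.normalizer ((P : Subgroup G) : Set G) := by
    have h1 : m • P = P := by rw [hm, mul_smul, ← heq, inv_smul_smul]
    exact Sylow.smul_eq_iff_mem_normalizer.mp h1
  obtain ⟨hbz, k', hbk⟩ := (mem_rootStab hz hza _).mp (B.inv_mem b.2)
  have hmz : m * z * m⁻¹ = pw p z (l : ZMod p) := by
    have e1 : m * z * m⁻¹ = (b : G)⁻¹ * (g * z * g⁻¹) * (b : G)⁻¹⁻¹ := by rw [hm]; group
    rw [e1, hgz, conj_pw, hbz]
  have hma : m * a * m⁻¹ = pw p a (l' : ZMod p) * pw p z (k' * (l' : ZMod p)) := by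
    have e1 : m * a * m⁻¹ = (b : G)⁻¹ * (g * a * g⁻¹) * (b : G)⁻¹⁻¹ := by rw [hm]; group
    rw [e1, hga, conj_pw, hbk]
    have hc : Commute a (pw p z k') := by
      have := (pw_comm_of_commute p hza k' 1).symm
      rwa [pw_one] at this
    rw [pw_mul_of_commute p hc, ← pw_mul p hz]
  obtain ⟨u, huP, hua⟩ := hPsurj (-k')
  refine ⟨u * m, ?_, ?_, ?_⟩
  · exact Subgroup.mul_mem _ (Subgroup.le_normalizer huP) hmN
  · have e1 : u * m * z * (u * m)⁻¹ = u * (m * z * m⁻¹) * u⁻¹ := by group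
    rw [e1, hmz, conj_pw, hPz u huP]
  · have e1 : u * m * a * (u * m)⁻¹ = u * (m * a * m⁻¹) * u⁻¹ := by group
    rw [e1, hma, conj_mul', conj_pw, conj_pw, hPz u huP, hua]
    have hc : Commute a (pw p z (-k')) := by
      have := (pw_comm_of_commute p hza (-k') 1).symm
      rwa [pw_one] at this
    rw [pw_mul_of_commute p hc, ← pw_mul p hz, mul_assoc, ← pw_add p hz]
    have : -k' * (l' : ZMod p) + k' * (l' : ZMod p) = 0 := by ring
    rw [this, pw_zero, mul_one]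

end Cfsg.Agent.Lib.Helper5.Xsp
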