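import Mathlib
import Cfsg.Prelude.Def_Transfer
import Cfsg.Agent.Lib.Helper5.Xsp.E5
import Cfsg.Agent.Lib.Helper5.Xsp.F2
import Cfsg.Agent.Lib.Helper5.Xsp.B4

set_option autoImplicit false
set_option linter.unusedSectionVars false
set_option linter.style.haveILetI false

/-!
# Extraspecial Sylow subgroups of order `p³` and exponent `p`: the torus elements in the
normaliser, and the resulting bounds on `p`
-/

namespace Cfsg.Agent.Lib.Helper5.Xsp

open scoped commutatorElement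
open Matrix

variable {p : ℕ} [hp : Fact p.Prime] {G : Type*} [Group G]

theorem heis_of_extraspecial (P : Subgroup G) (hE : Cfsg.IsExtraspecial p ↥P)
    (hcard : Nat.card P = p ^ 3) (hexp : Monoid.exponent ↥P = p) : Heis p ↥P where
  pow u := by
    have := Monoid.pow_exponent_eq_one u
    rwa [hexp] at this
  comm u v := by
    rw [← hE.1.2.2, commutator_def]
    exact Subgroup.commutator_mem_commutator (Subgroup.mem_top u) (Subgroup.mem_top v)
  cardZ := hE.2
  card := hcard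

section

variable [Finite G] (P : Sylow p G) (hH : Heis p ↥(P : Subgroup G))
  (z : G) (hzP : z ∈ (P : Subgroup G))
  (hzc : (⟨z, hzP⟩ : ↥(P : Subgroup G)) ∈ Subgroup.center ↥(P : Subgroup G)) (hz1 : z ≠ 1)

include hH hzc hz1

theorem gl_pow {u : G} (hu : u ∈ (P : Subgroup G)) : u ^ p = 1 := by
  have := hH.pow ⟨u, hu⟩
  exact congrArg Subtype.val this

theorem gl_Pz {u : G} (hu : u ∈ (P : Subgroup G)) : u * z * u⁻¹ = z := by
  have := (Subgroup.mem_center_iff.mp hzc) ⟨u, hu⟩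
  have h2 : u * z = z * u := congrArg Subtype.val this
  rw [h2]; group

theorem gl_Pa {a : G} (ha : a ∈ (P : Subgroup G)) {u : G} (hu : u ∈ (P : Subgroup G)) :
    ∃ k : ZMod p, u * a * u⁻¹ = a * pw p z k := by
  have hz1' : (⟨z, hzP⟩ : ↥(P : Subgroup G)) ≠ 1 := fun h0 => hz1 (congrArg Subtype.val h0)
  obtain ⟨k, hk⟩ := hH.exists_conj_eq hzc hz1' ⟨u, hu⟩ ⟨a, ha⟩
  refine ⟨k, ?_⟩
  have := congrArg Subtype.val hk
  simpa [pw] using this

theorem gl_Psurj {a : G} (ha : a ∈ (P : Subgroup G))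
    (hac : (⟨a, ha⟩ : ↥(P : Subgroup G)) ∉ Subgroup.center ↥(P : Subgroup G)) (k : ZMod p) :
    ∃ u ∈ (P : Subgroup G), u * a * u⁻¹ = a * pw p z k := by
  have hz1' : (⟨z, hzP⟩ : ↥(P : Subgroup G)) ≠ 1 := fun h0 => hz1 (congrArg Subtype.val h0)
  obtain ⟨u, hu⟩ := hH.exists_conj_eq_surj hzc hz1' hac k
  refine ⟨(u : G), u.2, ?_⟩
  have := congrArg Subtype.val hu
  simpa [pw] using this

/-- the Frattini argument in this setting -/
theorem exists_normalizer_torus {a : G} (ha : a ∈ (P : Subgroup G))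
    (hac : (⟨a, ha⟩ : ↥(P : Subgroup G)) ∉ Subgroup.center ↥(P : Subgroup G))
    (l : (ZMod p)ˣ) (g : G) (hgz : g * z * g⁻¹ = pw p z (l : ZMod p))
    (hga : g * a * g⁻¹ = pw p a ((l⁻¹ : (ZMod p)ˣ) : ZMod p)) :
    ∃ n ∈ Subgroup.normalizer ((P : Subgroup G) : Set G),
      n * z * n⁻¹ = pw p z (l : ZMod p) ∧ n * a * n⁻¹ = pw p a ((l⁻¹ : (ZMod p)ˣ) : ZMod p) := by
  have hza : Commute z a := by
    have := gl_Pz P hH z hzP hzc hz1 ha
    have h2 : a * z = z * a := by
      calc a * z = (a * z * a⁻¹) * a := by group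
        _ = z * a := by rw [this]
    exact h2.symm
  exact frattini_adjust P z a (gl_pow P hH z hzP hzc hz1 hzP) (gl_pow P hH z hzP hzc hz1 ha) hza
    (fun u hu => gl_Pz P hH z hzP hzc hz1 hu) (fun u hu => gl_Pa P hH z hzP hzc hz1 ha hu)
    (fun k => gl_Psurj P hH z hzP hzc hz1 ha hac k) l l⁻¹ g hgz hga

end

end Cfsg.Agent.Lib.Helper5.Xsp
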