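import Mathlib
import Cfsg.Agent.Lib.Helper5.Xsp.F3

set_option autoImplicit false
set_option linter.unusedSectionVars false
set_option linter.style.haveILetI false

/-!
# The image of the normaliser of an extraspecial Sylow subgroup in `GL₂(𝔽_p)`
-/

namespace Cfsg.Agent.Lib.Helper5.Xsp

open scoped commutatorElement
open Matrix

variable {p : ℕ} [hp : Fact p.Prime] {G : Type*} [Group G]

section

variable [Finite G] (P : Sylow p G) (hH : Heis p ↥(P : Subgroup G))
  (x y : ↥(P : Subgroup G)) (hxy : ⁅x, y⁆ ≠ 1)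

/-- the action of the normaliser of `P` on `P/Z(P)`, in coordinates -/
noncomputable def rhoG :
    ↥(Subgroup.normalizer ((P : Subgroup G) : Set G)) →* GL (Fin 2) (ZMod p) :=
  (hH.rho x y hxy).comp (P : Subgroup G).normalizerMonoidHom

theorem rhoG_of_mem (n : ↥(Subgroup.normalizer ((P : Subgroup G) : Set G)))
    (hn : (n : G) ∈ (P : Subgroup G)) : rhoG P hH x y hxy n = 1 := by
  have h1 : (P : Subgroup G).normalizerMonoidHom n = MulAut.conj ⟨(n : G), hn⟩ := by
    ext w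
    rw [Subgroup.normalizerMonoidHom_apply_apply_coe, MulAut.conj_apply]
    rfl
  unfold rhoG
  rw [MonoidHom.comp_apply, h1, hH.rho_conj x y hxy]

theorem rhoG_range_not_dvd : ¬ p ∣ Nat.card ↥(rhoG P hH x y hxy).range := by
  rw [← Subgroup.index_ker]
  intro hdvd
  have hle : (P : Subgroup G).subgroupOf (Subgroup.normalizer ((P : Subgroup G) : Set G)) ≤
      (rhoG P hH x y hxy).ker := by
    intro n hn
    rw [Subgroup.mem_subgroupOf] at hn
    rw [MonoidHom.mem_ker]
    exact rhoG_of_mem P hH x y hxy n hn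
  have h1 := Subgroup.index_dvd_of_le hle
  have h2 : ((P : Subgroup G).subgroupOf
      (Subgroup.normalizer ((P : Subgroup G) : Set G))).index ∣ (P : Subgroup G).index := by
    have := Subgroup.relIndex_mul_index (Subgroup.le_normalizer (H := (P : Subgroup G)))
    rw [← this]
    exact Dvd.intro _ rfl
  exact P.not_dvd_index ((hdvd.trans h1).trans h2)

variable (z : G) (hzP : z ∈ (P : Subgroup G))
  (hzc : (⟨z, hzP⟩ : ↥(P : Subgroup G)) ∈ Subgroup.center ↥(P : Subgroup G)) (hz1 : z ≠ 1)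

/-- the element `a` is normalised by a full torus acting as `(l, l⁻¹)` on `(z, a)` -/
def Good (p : ℕ) [Fact p.Prime] (z a : G) : Prop :=
  ∀ l : (ZMod p)ˣ, ∃ g : G, g * z * g⁻¹ = pw p z (l : ZMod p) ∧
    g * a * g⁻¹ = pw p a ((l⁻¹ : (ZMod p)ˣ) : ZMod p)

omit [Finite G] in
theorem coe_pw (S : Subgroup G) (u : ↥S) (k : ZMod p) : ((pw p u k : ↥S) : G) = pw p (u : G) k := by
  unfold pw
  rw [Subgroup.coe_pow]

include hzc hz1 in
theorem hasTorus_of_good {a : G} (ha : a ∈ (P : Subgroup G))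
    (hac : (⟨a, ha⟩ : ↥(P : Subgroup G)) ∉ Subgroup.center ↥(P : Subgroup G))
    (hg : Good p z a) :
    HasTorus p (rhoG P hH x y hxy).range (hH.kap x y hxy ⟨a, ha⟩) := by
  intro l
  obtain ⟨g, hgz, hga⟩ := hg l
  obtain ⟨n, hn, hnz, hna⟩ := exists_normalizer_torus P hH z hzP hzc hz1 ha hac l g hgz hga
  refine ⟨rhoG P hH x y hxy ⟨n, hn⟩, ⟨⟨n, hn⟩, rfl⟩, ?_, ?_⟩
  · have h1 : (P : Subgroup G).normalizerMonoidHom ⟨n, hn⟩ ⟨a, ha⟩ =
        pw p (⟨a, ha⟩ : ↥(P : Subgroup G)) ((l⁻¹ : (ZMod p)ˣ) : ZMod p) := by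
      apply Subtype.ext
      rw [Subgroup.normalizerMonoidHom_apply_apply_coe, coe_pw]
      exact hna
    have h2 := hH.kap_aut' x y hxy ((P : Subgroup G).normalizerMonoidHom ⟨n, hn⟩) ⟨a, ha⟩
    rw [h1, hH.kap_pw x y hxy] at h2
    exact h2.symm
  · have h1 : (P : Subgroup G).normalizerMonoidHom ⟨n, hn⟩ ⟨z, hzP⟩ =
        pw p (⟨z, hzP⟩ : ↥(P : Subgroup G)) (l : ZMod p) := by
      apply Subtype.ext
      rw [Subgroup.normalizerMonoidHom_apply_apply_coe, coe_pw]
      exact hnz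
    have h2 := hH.aut_central x y hxy ((P : Subgroup G).normalizerMonoidHom ⟨n, hn⟩) hzc
    rw [h1] at h2
    have hz1' : (⟨z, hzP⟩ : ↥(P : Subgroup G)) ≠ 1 := fun h0 => hz1 (congrArg Subtype.val h0)
    exact (pw_inj p (hH.pow _) hz1' h2).symm

include hH hxy hzc hz1 in
/-- three pairwise non-commuting good elements bound `p` -/
theorem bound_three (a : Fin 3 → G) (ha : ∀ i, a i ∈ (P : Subgroup G))
    (hnc : ∀ i j, i ≠ j → a i * a j ≠ a j * a i) (hg : ∀ i, Good p z (a i)) :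
    p - 1 ∣ 6 ∨ p - 1 ∣ 9 ∨ p - 1 ∣ 15 ∨ p - 1 ∣ 12 := by
  have hac : ∀ i, (⟨a i, ha i⟩ : ↥(P : Subgroup G)) ∉ Subgroup.center ↥(P : Subgroup G) := by
    intro i hc
    obtain ⟨j, hj⟩ : ∃ j : Fin 3, i ≠ j := ⟨i + 1, by fin_cases i <;> decide⟩
    apply hnc i j hj
    have := (Subgroup.mem_center_iff.mp hc) ⟨a j, ha j⟩
    exact (congrArg Subtype.val this).symm
  have h3 := core_three p (rhoG P hH x y hxy).range (rhoG_range_not_dvd P hH x y hxy)
    (fun i => hH.kap x y hxy ⟨a i, ha i⟩)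
    (by
      intro i j hij
      apply hH.kap_dt_ne_zero x y hxy
      intro h0
      apply hnc i j hij
      have h1 := congrArg Subtype.val h0
      rw [commutatorElement_def] at h1
      simp only [Subgroup.coe_mul, Subgroup.coe_inv, Subgroup.coe_one] at h1
      calc a i * a j = (a i * a j * (a i)⁻¹ * (a j)⁻¹) * (a j * a i) := by group
        _ = a j * a i := by rw [h1, one_mul])
    (fun i => hasTorus_of_good P hH x y hxy z hzP hzc hz1 (ha i) (hac i) (hg i))
  rcases h3 with h | h | h | ⟨h, _⟩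
  · exact Or.inl h
  · exact Or.inr (Or.inl h)
  · exact Or.inr (Or.inr (Or.inl h))
  · exact Or.inr (Or.inr (Or.inr h))

include hH hxy hzc hz1 in
/-- if every noncentral element is good then `p ≤ 7` -/
theorem bound_all
    (hg : ∀ a : G, ∀ ha : a ∈ (P : Subgroup G),
      (⟨a, ha⟩ : ↥(P : Subgroup G)) ∉ Subgroup.center ↥(P : Subgroup G) → Good p z a) :
    p ≤ 7 := by
  apply core_all p (rhoG P hH x y hxy).range (rhoG_range_not_dvd P hH x y hxy)
  intro v hv
  have hk := hH.kap_sec x y hxy v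
  have hnc : Heis.sec hH x y v ∉ Subgroup.center ↥(P : Subgroup G) := by
    intro hc
    rw [← hH.kap_eq_zero_iff x y hxy, hk] at hc
    exact hv hc
  have := hasTorus_of_good P hH x y hxy z hzP hzc hz1 (Heis.sec hH x y v).2 hnc
    (hg _ (Heis.sec hH x y v).2 hnc)
  rw [← hk]
  exact this

end

end Cfsg.Agent.Lib.Helper5.Xsp
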