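import Mathlib
import Cfsg.Agent.Lib.Helper5.Xsp.F4
import Cfsg.Agent.Lib.Helper5.Xsp.T3

set_option autoImplicit false
set_option linter.unusedSectionVars false
set_option linter.style.haveILetI false
set_option linter.deprecated false

/-!
# Subgroups of order `p²` in an extraspecial group of order `p³`
-/

namespace Cfsg.Agent.Lib.Helper5.Xsp

open scoped commutatorElement
open Matrix

variable {p : ℕ} [hp : Fact p.Prime] {G : Type*} [Group G]

namespace Heis

variable {E : Type*} [Group E] (h : Heis p E)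
include h

theorem exists_noncomm : ∃ x y : E, ⁅x, y⁆ ≠ 1 := by
  by_contra hcon
  push_neg at hcon
  haveI := h.finite
  have htop : Subgroup.center E = ⊤ := by
    rw [eq_top_iff]
    intro u _
    rw [Subgroup.mem_center_iff]
    intro v
    have := hcon v u
    rw [commutatorElement_def] at this
    calc v * u = (v * u * v⁻¹ * u⁻¹) * (u * v) := by group
      _ = u * v := by rw [this, one_mul]
  have h1 := h.cardZ
  rw [htop, Subgroup.card_top, h.card] at h1
  have hp1 := hp.out.one_lt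
  have : p ^ 3 = p * (p * p) := by ring
  rw [this] at h1
  have h2 : p * (p * p) > p * 1 := by
    apply Nat.mul_lt_mul_of_pos_left _ hp.out.pos
    nlinarith
  omega

theorem exists_central : ∃ z : E, z ∈ Subgroup.center E ∧ z ≠ 1 := by
  haveI := h.finite
  have h1 : 1 < Nat.card (Subgroup.center E) := by rw [h.cardZ]; exact hp.out.one_lt
  rw [Finite.one_lt_card_iff_nontrivial] at h1
  obtain ⟨z, hz⟩ := exists_ne (1 : Subgroup.center E)
  exact ⟨z, z.2, fun h0 => hz (Subtype.ext h0)⟩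

end Heis

section

variable [Finite G]

theorem exists_noncentral_of_card (P A : Subgroup G)
    (hZ : Nat.card (Subgroup.center ↥P) = p) (hAP : A ≤ P) (hA : Nat.card A = p ^ 2) :
    ∃ a, ∃ haA : a ∈ A, (⟨a, hAP haA⟩ : ↥P) ∉ Subgroup.center ↥P := by
  by_contra hcon
  push_neg at hcon
  have hinj : Function.Injective
      (fun u : ↥A => (⟨⟨(u : G), hAP u.2⟩, hcon u u.2⟩ : Subgroup.center ↥P)) := by
    intro u v huv
    apply Subtype.ext
    have := congrArg (fun w : Subgroup.center ↥P => ((w : ↥P) : G)) huv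
    exact this
  have := Nat.card_le_card_of_injective _ hinj
  rw [hA, hZ] at this
  have hp1 := hp.out.one_lt
  nlinarith

theorem mem_of_commute (P A : Subgroup G) (hP : Nat.card P = p ^ 3) (hAP : A ≤ P)
    (hA : Nat.card A = p ^ 2) {a : G} (haA : a ∈ A) (hnc : ∃ u ∈ P, u * a ≠ a * u) :
    ∀ u ∈ P, u * a = a * u → u ∈ A := by
  have hcomm := IsPGroup.commutative_of_card_eq_prime_sq hA
  set C : Subgroup G := Subgroup.centralizer {a} ⊓ P with hC
  have hAC : A ≤ C := by
    intro u hu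
    refine ⟨Subgroup.mem_centralizer_singleton_iff.mpr ?_, hAP hu⟩
    have := hcomm ⟨u, hu⟩ ⟨a, haA⟩
    exact congrArg Subtype.val this
  have hCP : C ≤ P := inf_le_right
  have hd1 := Subgroup.card_dvd_of_le hCP
  have hd2 := Subgroup.card_dvd_of_le hAC
  rw [hP] at hd1
  rw [hA] at hd2
  obtain ⟨k, hk3, hk⟩ := (Nat.dvd_prime_pow hp.out).mp hd1
  rw [hk] at hd2
  have hk2 : 2 ≤ k := (Nat.pow_dvd_pow_iff_le_right hp.out.one_lt).mp hd2
  have hk' : k = 2 := by
    by_contra hne
    have hk3' : k = 3 := by omega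
    have hCP' : C = P := Subgroup.eq_of_le_of_card_ge hCP (by rw [hP, hk, hk3'])
    obtain ⟨u, hu, hua⟩ := hnc
    apply hua
    have : u ∈ C := by rw [hCP']; exact hu
    exact Subgroup.mem_centralizer_singleton_iff.mp this.1
  have hAC' : A = C := Subgroup.eq_of_le_of_card_ge hAC (by rw [hA, hk, hk'])
  intro u hu hua
  rw [hAC']
  exact ⟨Subgroup.mem_centralizer_singleton_iff.mpr hua, hu⟩

omit [Finite G] in
theorem actsBy_of_aut (A : Subgroup G) {z a : G} (hz : z ∈ A) (ha : a ∈ A)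
    (e : ↥A ≃* Multiplicative (Fin 2 → ZMod p))
    (he : ∀ i j : ZMod p, e (pw p (⟨z, hz⟩ : ↥A) i * pw p (⟨a, ha⟩ : ↥A) j) =
      Multiplicative.ofAdd ![i, j])
    (M : GL (Fin 2) (ZMod p)) (g : G)
    (hg : ∀ u : ↥A, ((autOfHom p e M u : ↥A) : G) = g * (u : G) * g⁻¹) :
    ActsBy p z a g (M : Matrix (Fin 2) (Fin 2) (ZMod p)) := by
  have e1 : e ⟨z, hz⟩ = Multiplicative.ofAdd ![1, 0] := by
    have := he 1 0
    rwa [pw_one, pw_zero, mul_one] at this
  have e2 : e ⟨a, ha⟩ = Multiplicative.ofAdd ![0, 1] := by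
    have := he 0 1
    rwa [pw_one, pw_zero, one_mul] at this
  have m1 : (M : Matrix (Fin 2) (Fin 2) (ZMod p)) *ᵥ ![1, 0] =
      ![(M : Matrix (Fin 2) (Fin 2) (ZMod p)) 0 0, (M : Matrix (Fin 2) (Fin 2) (ZMod p)) 1 0] := by
    ext i
    fin_cases i <;> simp [Matrix.mulVec, dotProduct, Fin.sum_univ_two]
  have m2 : (M : Matrix (Fin 2) (Fin 2) (ZMod p)) *ᵥ ![0, 1] =
      ![(M : Matrix (Fin 2) (Fin 2) (ZMod p)) 0 1, (M : Matrix (Fin 2) (Fin 2) (ZMod p)) 1 1] := by
    ext i
    fin_cases i <;> simp [Matrix.mulVec, dotProduct, Fin.sum_univ_two]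
  constructor
  · have h1 := hg ⟨z, hz⟩
    rw [autOfHom_apply, e1, toAdd_ofAdd, m1, ← he, e.symm_apply_apply, Subgroup.coe_mul, coe_pw,
      coe_pw] at h1
    exact h1.symm
  · have h1 := hg ⟨a, ha⟩
    rw [autOfHom_apply, e2, toAdd_ofAdd, m2, ← he, e.symm_apply_apply, Subgroup.coe_mul, coe_pw,
      coe_pw] at h1
    exact h1.symm

omit [Finite G] in
theorem actsBy_one (z a : G) : ActsBy p z a 1 (1 : Matrix (Fin 2) (Fin 2) (ZMod p)) := by
  constructor
  · simp [pw_one, pw_zero]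
  · simp [pw_one, pw_zero]

end

end Cfsg.Agent.Lib.Helper5.Xsp
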