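import Mathlib
import Cfsg.Agent.Lib.Helper5.Xsp.G1

set_option autoImplicit false
set_option linter.unusedSectionVars false
set_option linter.style.haveILetI false
set_option linter.deprecated false

/-!
# Three radical subgroups of order `p²` in an extraspecial Sylow subgroup: `p ≤ 13`
-/

namespace Cfsg.Agent.Lib.Helper5.Xsp

open scoped commutatorElement
open Matrix

variable {p : ℕ} [hp : Fact p.Prime] {G : Type*} [Group G]

omit hp in
theorem prime_le_13 (hp : p.Prime) (h : p - 1 ∣ 6 ∨ p - 1 ∣ 9 ∨ p - 1 ∣ 15 ∨ p - 1 ∣ 12) :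
    p ≤ 13 := by
  have h16 : p ≤ 16 := by
    rcases h with h | h | h | h
    · have := Nat.le_of_dvd (by norm_num) h; omega
    · have := Nat.le_of_dvd (by norm_num) h; omega
    · have := Nat.le_of_dvd (by norm_num) h; omega
    · have := Nat.le_of_dvd (by norm_num) h; omega
  by_contra hcon
  push_neg at hcon
  interval_cases p
  · norm_num at hp
  · norm_num at hp
  · norm_num at hp

section

variable [Finite G]

/-- a subgroup of order `p²` all of whose automorphisms of order `p` are induced by `G`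
is "good" -/
theorem good_of_radical (P : Sylow p G) (hH : Heis p ↥(P : Subgroup G))
    (z : G) (hzP : z ∈ (P : Subgroup G))
    (hzc : (⟨z, hzP⟩ : ↥(P : Subgroup G)) ∈ Subgroup.center ↥(P : Subgroup G)) (hz1 : z ≠ 1)
    (A : Subgroup G) (hAP : A ≤ (P : Subgroup G)) (hAcard : Nat.card ↥A = p ^ 2)
    (hSL : ∀ φ : MulAut ↥A, orderOf φ = p → ∃ g : G, ∀ a : ↥A, (φ a : G) = g * (a : G) * g⁻¹)
    {a : G} (haA : a ∈ A)
    (hac : (⟨a, hAP haA⟩ : ↥(P : Subgroup G)) ∉ Subgroup.center ↥(P : Subgroup G)) :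
    z ∈ A ∧ Good p z a := by
  have hcardP := hH.card
  have hnc : ∃ u ∈ (P : Subgroup G), u * a ≠ a * u := by
    by_contra hcon
    push_neg at hcon
    apply hac
    rw [Subgroup.mem_center_iff]
    intro u
    apply Subtype.ext
    exact hcon u u.2
  have hza : z * a = a * z := by
    have := (Subgroup.mem_center_iff.mp hzc) ⟨a, hAP haA⟩
    exact (congrArg Subtype.val this).symm
  have hzA : z ∈ A := mem_of_commute (P : Subgroup G) A hcardP hAP hAcard haA hnc z hzP hza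
  refine ⟨hzA, ?_⟩
  have hcomm := IsPGroup.commutative_of_card_eq_prime_sq hAcard
  have hexp : ∀ u : ↥A, u ^ p = 1 := by
    intro u
    apply Subtype.ext
    rw [Subgroup.coe_pow, Subgroup.coe_one]
    exact gl_pow P hH z hzP hzc hz1 (hAP u.2)
  have hz1' : (⟨z, hzA⟩ : ↥A) ≠ 1 := fun h0 => hz1 (congrArg Subtype.val h0)
  have hnz : (⟨a, haA⟩ : ↥A) ∉ Subgroup.zpowers (⟨z, hzA⟩ : ↥A) := by
    intro hmem
    obtain ⟨n, hn⟩ := Subgroup.mem_zpowers_iff.mp hmem
    apply hac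
    have h1 : (⟨a, hAP haA⟩ : ↥(P : Subgroup G)) = (⟨z, hzP⟩ : ↥(P : Subgroup G)) ^ n := by
      apply Subtype.ext
      rw [Subgroup.coe_zpow]
      have := congrArg Subtype.val hn
      rw [Subgroup.coe_zpow] at this
      exact this.symm
    rw [h1]
    exact Subgroup.zpow_mem _ hzc n
  obtain ⟨e, he⟩ := exists_coord p hcomm hexp hAcard ⟨z, hzA⟩ ⟨a, haA⟩ hz1' hnz
  have hact : ∀ M : GL (Fin 2) (ZMod p), orderOf M = p →
      ∃ g : G, ActsBy p z a g (M : Matrix (Fin 2) (Fin 2) (ZMod p)) := by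
    intro M hM
    obtain ⟨g, hg⟩ := hSL (autOfHom p e M) (by rw [orderOf_autOfHom, hM])
    exact ⟨g, actsBy_of_aut A hzA haA e he M g hg⟩
  have hx : ∀ t : ZMod p, ∃ g : G, ActsBy p z a g (xT p t : GL (Fin 2) (ZMod p)) := by
    intro t
    by_cases ht : t = 0
    · refine ⟨1, ?_⟩
      rw [ht, xT_zero, Units.val_one]
      exact actsBy_one z a
    · exact hact _ (orderOf_xT p ht)
  have hy : ∀ t : ZMod p, ∃ g : G, ActsBy p z a g (yT p t : GL (Fin 2) (ZMod p)) := by
    intro t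
    by_cases ht : t = 0
    · refine ⟨1, ?_⟩
      rw [ht, yT_zero, Units.val_one]
      exact actsBy_one z a
    · exact hact _ (orderOf_yT p ht)
  exact exists_actsBy_dT p hza (gl_pow P hH z hzP hzc hz1 hzP)
    (gl_pow P hH z hzP hzc hz1 (hAP haA)) hx hy

theorem bound_radical (P : Sylow p G) (hE : Cfsg.IsExtraspecial p ↥(P : Subgroup G))
    (hcard : Nat.card ↥(P : Subgroup G) = p ^ 3)
    (hexp : Monoid.exponent ↥(P : Subgroup G) = p)
    (A : Fin 3 → Subgroup G) (hA : Function.Injective A) (hAP : ∀ i, A i ≤ (P : Subgroup G))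
    (hAcard : ∀ i, Nat.card ↥(A i) = p ^ 2)
    (hSL : ∀ i, ∀ φ : MulAut ↥(A i), orderOf φ = p →
      ∃ g : G, ∀ a : ↥(A i), (φ a : G) = g * (a : G) * g⁻¹) :
    p ≤ 13 := by
  have hH := heis_of_extraspecial (P : Subgroup G) hE hcard hexp
  obtain ⟨x, y, hxy⟩ := hH.exists_noncomm
  obtain ⟨z₀, hz₀c, hz₀1⟩ := hH.exists_central
  have hzc : (⟨(z₀ : G), z₀.2⟩ : ↥(P : Subgroup G)) ∈ Subgroup.center ↥(P : Subgroup G) := hz₀c
  have hz1 : (z₀ : G) ≠ 1 := fun h0 => hz₀1 (Subtype.ext h0)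
  have hex := fun i => exists_noncentral_of_card (P : Subgroup G) (A i) hH.cardZ (hAP i) (hAcard i)
  choose a haA hac using hex
  have hgood := fun i => good_of_radical P hH (z₀ : G) z₀.2 hzc hz1 (A i) (hAP i) (hAcard i)
    (hSL i) (haA i) (hac i)
  apply prime_le_13 hp.out
  apply bound_three P hH x y hxy (z₀ : G) z₀.2 hzc hz1 a (fun i => hAP i (haA i)) _
    (fun i => (hgood i).2)
  intro i j hij hcomm
  -- `a j` centralises `a i`, so it lies in `A i`, whence `A j ≤ A i`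
  apply hij
  apply hA
  symm
  have hnc : ∃ u ∈ (P : Subgroup G), u * a i ≠ a i * u := by
    by_contra hcon
    push_neg at hcon
    apply hac i
    rw [Subgroup.mem_center_iff]
    intro u
    apply Subtype.ext
    exact hcon u u.2
  have hajAi : a j ∈ A i := mem_of_commute (P : Subgroup G) (A i) hH.card (hAP i) (hAcard i)
    (haA i) hnc (a j) (hAP j (haA j)) hcomm.symm
  have hzAi : (z₀ : G) ∈ A i := (hgood i).1
  have hzAj : (z₀ : G) ∈ A j := (hgood j).1
  apply Subgroup.eq_of_le_of_card_ge _ (by rw [hAcard i, hAcard j])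
  -- every element of `A j` is a product of powers of `z₀` and `a j`
  have hcommj := IsPGroup.commutative_of_card_eq_prime_sq (hAcard j)
  have hexpj : ∀ u : ↥(A j), u ^ p = 1 := by
    intro u
    apply Subtype.ext
    rw [Subgroup.coe_pow, Subgroup.coe_one]
    exact gl_pow P hH (z₀ : G) z₀.2 hzc hz1 (hAP j u.2)
  have hz1' : (⟨(z₀ : G), hzAj⟩ : ↥(A j)) ≠ 1 := fun h0 => hz1 (congrArg Subtype.val h0)
  have hnz : (⟨a j, haA j⟩ : ↥(A j)) ∉ Subgroup.zpowers (⟨(z₀ : G), hzAj⟩ : ↥(A j)) := by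
    intro hmem
    obtain ⟨n, hn⟩ := Subgroup.mem_zpowers_iff.mp hmem
    apply hac j
    have h1 : (⟨a j, hAP j (haA j)⟩ : ↥(P : Subgroup G)) = z₀ ^ n := by
      apply Subtype.ext
      rw [Subgroup.coe_zpow]
      have := congrArg Subtype.val hn
      rw [Subgroup.coe_zpow] at this
      exact this.symm
    rw [h1]
    exact Subgroup.zpow_mem _ hz₀c n
  obtain ⟨e, he⟩ := exists_coord p hcommj hexpj (hAcard j) ⟨(z₀ : G), hzAj⟩ ⟨a j, haA j⟩ hz1' hnz
  intro w hw
  have h1 : (⟨w, hw⟩ : ↥(A j)) =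
      pw p (⟨(z₀ : G), hzAj⟩ : ↥(A j)) (Multiplicative.toAdd (e ⟨w, hw⟩) 0) *
        pw p (⟨a j, haA j⟩ : ↥(A j)) (Multiplicative.toAdd (e ⟨w, hw⟩) 1) := by
    apply e.injective
    rw [he, Heis.vec2_eta]
    rfl
  have h2 := congrArg Subtype.val h1
  rw [Subgroup.coe_mul, coe_pw, coe_pw] at h2
  show w ∈ A i
  rw [show w = _ from h2]
  exact (A i).mul_mem (pw_mem p (A i) hzAi _) (pw_mem p (A i) hajAi _)

end

end Cfsg.Agent.Lib.Helper5.Xsp
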