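import Mathlib
import Cfsg.Agent.Lib.Helper5.Xsp.G1

set_option autoImplicit false
set_option linter.unusedSectionVars false
set_option linter.style.haveILetI false
set_option linter.deprecated false

/-!
# Extraspecial Sylow subgroup with all nonidentity elements conjugate: `p ≤ 7`
-/

namespace Cfsg.Agent.Lib.Helper5.Xsp

open scoped commutatorElement
open Matrix

variable {p : ℕ} [hp : Fact p.Prime] {G : Type*} [Group G]

section

variable [Finite G]

/-- Sylow's theorem inside a subgroup containing the Sylow subgroup `P` -/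
theorem exists_conj_into_sylow (P : Sylow p G) (C : Subgroup G) (hPC : (P : Subgroup G) ≤ C)
    (w : G) (hwC : w ∈ C) (hw : w ^ p = 1) : ∃ c ∈ C, c * w * c⁻¹ ∈ (P : Subgroup G) := by
  set R : Subgroup ↥C := Subgroup.zpowers (⟨w, hwC⟩ : ↥C) with hRdef
  have hwp : (⟨w, hwC⟩ : ↥C) ^ p = 1 := Subtype.ext (by rw [Subgroup.coe_pow]; exact hw)
  have hR : IsPGroup p R := by
    intro r
    refine ⟨1, ?_⟩
    obtain ⟨n, hn⟩ := Subgroup.mem_zpowers_iff.mp r.2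
    apply Subtype.ext
    rw [pow_one, Subgroup.coe_pow, ← hn, ← zpow_natCast, ← _root_.zpow_mul, mul_comm,
      _root_.zpow_mul, zpow_natCast, hwp, _root_.one_zpow]
    rfl
  obtain ⟨Q, hQ⟩ := hR.exists_le_sylow
  obtain ⟨c, hc⟩ := MulAction.exists_smul_eq ↥C Q (P.subtype hPC)
  refine ⟨(c : G), c.2, ?_⟩
  have h1 : (⟨w, hwC⟩ : ↥C) ∈ (Q : Subgroup ↥C) := hQ (Subgroup.mem_zpowers _)
  have h2 : c * ⟨w, hwC⟩ * c⁻¹ ∈ ((c • Q : Sylow p ↥C) : Subgroup ↥C) := by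
    rw [Sylow.coe_subgroup_smul]
    have := Subgroup.smul_mem_pointwise_smul _ (MulAut.conj c) _ h1
    rwa [MulAut.smul_def, MulAut.conj_apply] at this
  rw [hc, Sylow.coe_subtype, Subgroup.mem_subgroupOf] at h2
  exact h2

theorem good_of_conj (P : Sylow p G) (hH : Heis p ↥(P : Subgroup G))
    (z : G) (hzP : z ∈ (P : Subgroup G))
    (hzc : (⟨z, hzP⟩ : ↥(P : Subgroup G)) ∈ Subgroup.center ↥(P : Subgroup G)) (hz1 : z ≠ 1)
    {a : G} (ha : a ∈ (P : Subgroup G))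
    (hac : (⟨a, ha⟩ : ↥(P : Subgroup G)) ∉ Subgroup.center ↥(P : Subgroup G))
    (g₀ : G) (hg₀ : g₀ * a * g₀⁻¹ = z) : Good p z a := by
  have hzp : z ^ p = 1 := gl_pow P hH z hzP hzc hz1 hzP
  have hap : a ^ p = 1 := gl_pow P hH z hzP hzc hz1 ha
  have hza : z * a = a * z := by
    have := (Subgroup.mem_center_iff.mp hzc) ⟨a, ha⟩
    exact (congrArg Subtype.val this).symm
  -- adjust `g₀` by an element of the centraliser of `z`
  set C : Subgroup G := Subgroup.centralizer {z} with hC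
  have hPC : (P : Subgroup G) ≤ C := by
    intro u hu
    rw [hC, Subgroup.mem_centralizer_singleton_iff]
    have := gl_Pz P hH z hzP hzc hz1 hu
    calc u * z = (u * z * u⁻¹) * u := by group
      _ = z * u := by rw [this]
  have hwC : g₀ * z * g₀⁻¹ ∈ C := by
    rw [hC, Subgroup.mem_centralizer_singleton_iff, ← hg₀]
    have e1 : g₀ * (g₀ * a * g₀⁻¹) * g₀⁻¹ * (g₀ * a * g₀⁻¹) = g₀ * (g₀ * a * g₀⁻¹ * a) * g₀⁻¹ := by
      group
    have e2 : g₀ * a * g₀⁻¹ * (g₀ * (g₀ * a * g₀⁻¹) * g₀⁻¹) = g₀ * (a * (g₀ * a * g₀⁻¹)) * g₀⁻¹ := by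
      group
    rw [e1, e2, hg₀, hza]
  have hwp : (g₀ * z * g₀⁻¹) ^ p = 1 := by rw [conj_pow, hzp]; group
  obtain ⟨c, hcC, hcP⟩ := exists_conj_into_sylow P C hPC _ hwC hwp
  have hcz : c * z * c⁻¹ = z := by
    rw [hC, Subgroup.mem_centralizer_singleton_iff] at hcC
    rw [hcC]; group
  set g := c * g₀ with hg
  have hga : g * a * g⁻¹ = z := by
    have e1 : g * a * g⁻¹ = c * (g₀ * a * g₀⁻¹) * c⁻¹ := by rw [hg]; group
    rw [e1, hg₀, hcz]
  set z' := g * z * g⁻¹ with hz'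
  have hz'P : z' ∈ (P : Subgroup G) := by
    have e1 : z' = c * (g₀ * z * g₀⁻¹) * c⁻¹ := by rw [hz', hg]; group
    rw [e1]; exact hcP
  have hgz' : g⁻¹ * z' * g = z := by rw [hz']; group
  have hgz : g⁻¹ * z * g = a := by rw [← hga]; group
  -- `z'` is not central
  have hz'c : (⟨z', hz'P⟩ : ↥(P : Subgroup G)) ∉ Subgroup.center ↥(P : Subgroup G) := by
    intro hcen
    have hz1' : (⟨z, hzP⟩ : ↥(P : Subgroup G)) ≠ 1 := fun h0 => hz1 (congrArg Subtype.val h0)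
    obtain ⟨k, hk⟩ := hH.exists_pw_of_central hzc hz1' hcen
    have hk' : z' = pw p z k := by
      have := congrArg Subtype.val hk
      rwa [coe_pw] at this
    -- conjugate back
    have h1 : z = pw p a k := by
      calc z = g⁻¹ * z' * g := hgz'.symm
        _ = g⁻¹ * pw p z k * g⁻¹⁻¹ := by rw [hk', inv_inv]
        _ = pw p (g⁻¹ * z * g⁻¹⁻¹) k := conj_pw p _ _ _
        _ = pw p a k := by rw [inv_inv, hgz]
    have hk0 : k ≠ 0 := by
      intro h0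
      rw [h0, pw_zero] at h1
      exact hz1 h1
    have h2 : a = pw p z k⁻¹ := by
      rw [h1, pw_pw_inv p hap hk0]
    apply hac
    have h3 : (⟨a, ha⟩ : ↥(P : Subgroup G)) = pw p (⟨z, hzP⟩ : ↥(P : Subgroup G)) k⁻¹ := by
      apply Subtype.ext
      rw [coe_pw]
      exact h2
    rw [h3]
    exact pw_mem p _ hzc _
  have hz'p : z' ^ p = 1 := gl_pow P hH z hzP hzc hz1 hz'P
  have hzz' : z * z' = z' * z := by
    have := (Subgroup.mem_center_iff.mp hzc) ⟨z', hz'P⟩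
    exact (congrArg Subtype.val this).symm
  -- the two root groups on `⟨z, z'⟩`
  have hx : ∀ t : ZMod p, ∃ h : G, ActsBy p z z' h (xT p t : GL (Fin 2) (ZMod p)) := by
    intro t
    obtain ⟨u, hu, hu'⟩ := gl_Psurj P hH z hzP hzc hz1 hz'P hz'c t
    refine ⟨u, ?_, ?_⟩
    · rw [xT_val]
      simp only [Matrix.of_apply, Matrix.cons_val', Matrix.cons_val_zero, Matrix.cons_val_one,
        Matrix.cons_val_fin_one]
      rw [pw_one, pw_zero, mul_one]
      exact gl_Pz P hH z hzP hzc hz1 hu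
    · rw [xT_val]
      simp only [Matrix.of_apply, Matrix.cons_val', Matrix.cons_val_zero, Matrix.cons_val_one,
        Matrix.cons_val_fin_one]
      rw [pw_one, hu']
      have hc := (pw_comm_of_commute p hzz' t 1).symm.eq
      rw [pw_one] at hc
      exact hc
  have hy : ∀ t : ZMod p, ∃ h : G, ActsBy p z z' h (yT p t : GL (Fin 2) (ZMod p)) := by
    intro t
    obtain ⟨u, hu, hu'⟩ := gl_Psurj P hH z hzP hzc hz1 ha hac t
    have huz := gl_Pz P hH z hzP hzc hz1 hu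
    refine ⟨g * u * g⁻¹, ?_, ?_⟩
    · rw [yT_val]
      simp only [Matrix.of_apply, Matrix.cons_val', Matrix.cons_val_zero, Matrix.cons_val_one,
        Matrix.cons_val_fin_one]
      rw [pw_one]
      have e1 : g * u * g⁻¹ * z * (g * u * g⁻¹)⁻¹ = g * (u * (g⁻¹ * z * g) * u⁻¹) * g⁻¹ := by group
      rw [e1, hgz, hu', conj_mul', hga, conj_pw]
    · rw [yT_val]
      simp only [Matrix.of_apply, Matrix.cons_val', Matrix.cons_val_zero, Matrix.cons_val_one,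
        Matrix.cons_val_fin_one]
      rw [pw_one, pw_zero, one_mul]
      have e1 : g * u * g⁻¹ * z' * (g * u * g⁻¹)⁻¹ = g * (u * (g⁻¹ * z' * g) * u⁻¹) * g⁻¹ := by group
      rw [e1, hgz', huz]
  intro l
  obtain ⟨g', hg'z, hg'z'⟩ := exists_actsBy_dT p hzz' hzp hz'p hx hy l⁻¹
  rw [inv_inv] at hg'z'
  refine ⟨g⁻¹ * g' * g, ?_, ?_⟩
  · have e1 : g⁻¹ * g' * g * z * (g⁻¹ * g' * g)⁻¹ = g⁻¹ * (g' * (g * z * g⁻¹) * g'⁻¹) * g⁻¹⁻¹ := by
      group
    rw [e1, ← hz', hg'z', conj_pw, inv_inv, hgz']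
  · have e1 : g⁻¹ * g' * g * a * (g⁻¹ * g' * g)⁻¹ = g⁻¹ * (g' * (g * a * g⁻¹) * g'⁻¹) * g⁻¹⁻¹ := by
      group
    rw [e1, hga, hg'z, conj_pw, inv_inv, hgz]

theorem bound_conj (P : Sylow p G) (hE : Cfsg.IsExtraspecial p ↥(P : Subgroup G))
    (hcard : Nat.card ↥(P : Subgroup G) = p ^ 3)
    (hexp : Monoid.exponent ↥(P : Subgroup G) = p)
    (hconj : ∀ x y : ↥(P : Subgroup G), x ≠ 1 → y ≠ 1 → ∃ g : G, g * (x : G) * g⁻¹ = (y : G)) :
    p ≤ 7 := by
  have hH := heis_of_extraspecial (P : Subgroup G) hE hcard hexp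
  obtain ⟨x, y, hxy⟩ := hH.exists_noncomm
  obtain ⟨z₀, hz₀c, hz₀1⟩ := hH.exists_central
  have hzc : (⟨(z₀ : G), z₀.2⟩ : ↥(P : Subgroup G)) ∈ Subgroup.center ↥(P : Subgroup G) := hz₀c
  have hz1 : (z₀ : G) ≠ 1 := fun h0 => hz₀1 (Subtype.ext h0)
  apply bound_all P hH x y hxy (z₀ : G) z₀.2 hzc hz1
  intro a ha hac
  have ha1 : (⟨a, ha⟩ : ↥(P : Subgroup G)) ≠ 1 := by
    intro h0
    apply hac
    rw [h0]
    exact Subgroup.one_mem _
  obtain ⟨g₀, hg₀⟩ := hconj ⟨a, ha⟩ z₀ ha1 hz₀1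
  exact good_of_conj P hH (z₀ : G) z₀.2 hzc hz1 ha hac g₀ hg₀

end

end Cfsg.Agent.Lib.Helper5.Xsp
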